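import Groth.Agent.Lib.HdgLef1.Seq
import Groth.Agent.Lib.SmImm2.Main
import Groth.Agent.Lib.EnriquesSeveri11.Proper
import Groth.Agent.Lib.SmDim19.RelDimVariety
import Groth.Agent.Lib.Pur25.Regular
import Groth.Agent.Lib.WeilExt.Apply
import Groth.Agent.Lib.CohFound.AmpleCrit
import Groth.Agent.Lib.CohFound.RelVan
import Groth.Agent.Lib.CohFound.ProperFinite

/-!
# Smooth divisors: the conormal data and the two vanishing statements
-/

set_option autoImplicit false
set_option linter.style.haveILetI false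
set_option linter.unusedSectionVars false
set_option backward.isDefEq.respectTransparency false
set_option backward.isDefEq.respectTransparency.types false
set_option maxHeartbeats 1000000

universe u

open CategoryTheory CategoryTheory.Limits AlgebraicGeometry TopologicalSpace Opposite

noncomputable section

namespace Groth.Agent.HdgLef1

open Groth.Agent

/-- The conormal sequence of a smooth divisor in a smooth scheme. -/
theorem conormal_of_smooth {X S : Scheme.{u}} (f : X ⟶ S) [Smooth f] [QuasiSeparated f] (I : X.IdealSheafData)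
    [Smooth (I.subschemeι ≫ f)] (hM : PicF.IsInvertible (ClSub.idealMod I)) :
    Conormal I (Omega.sheaf f) (Omega.sheaf (I.subschemeι ≫ f)) := by
  let i := I.subschemeι
  have hd := Omega12.isUniversal_dOmega (f := f)
  have hd' := Omega12.isUniversal_dOmega (f := i ≫ f)
  obtain ⟨φ, hφ, -⟩ := GrMap12.existsUnique_conormalDiff (i := i) (OmegaSh.dOmega f)
  obtain ⟨c, hc, -⟩ := Omega12.existsUnique_diffCompat (h := i) (f := f) (f' := i ≫ f) (b := 𝟙 S)
    (Category.comp_id _) hd (OmegaSh.dOmega (i ≫ f))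
  obtain ⟨h0, hex, hepi⟩ := Omega12.exact_immersion i _ _ hd _ _ hd' φ hφ c hc
  haveI := hepi
  haveI : Mono φ := GrMap12.mono_conormalDiff_of_formallySmooth
    (SmoothLift15.isFormallySmoothHom_of_smooth (i ≫ f)) hd hφ
  exact ⟨hM, Omega12.isFinLocFree_receptacle_of_smooth f hd, Omega12.isFinLocFree_receptacle_of_smooth (i ≫ f) hd',
    ShortComplex.mk φ c h0, ShortComplex.ShortExact.mk' hex inferInstance inferInstance,
    ⟨(Scheme.Modules.pullback i).mapIso (eqToIso (congrArg ClSub.idealMod I.ker_subschemeι))⟩,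
    ⟨Iso.refl _⟩, ⟨Iso.refl _⟩⟩

variable (k : Type u) [Field k] {X : Scheme.{u}} [X.Over (Spec (CommRingCat.of k))]
  [IsProper (X ↘ Spec (CommRingCat.of k))]

include k in
theorem isZero_forms [Smooth (X ↘ Spec (CommRingCat.of k))] {n : ℕ} (hn : topologicalKrullDim X ≤ n) {b : ℕ}
    (hb : n < b) : IsZero (Wedge2.extMod b (Omega.sheaf (X ↘ Spec (CommRingCat.of k)))) :=
  DeRhamH7.isZero_extPow (isExtPow_E (Omega12.isFinLocFree_receptacle_of_smooth (X ↘ Spec (CommRingCat.of k))
      (Omega12.isUniversal_dOmega _)) b) fun x => by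
    obtain ⟨m, W, e, hx, hm, he⟩ := DeRhamH7.exists_isBas_omega (X ↘ Spec (CommRingCat.of k)) n hn x
    exact ⟨m, W, e, hx, hm.trans_lt hb, he⟩

include k in
/-- On an irreducible smooth scheme locally free modules have full depth at closed points. -/
theorem lt_depth [Smooth (X ↘ Spec (CommRingCat.of k))] [IrreducibleSpace X] {n : ℕ}
    (hn : topologicalKrullDim X = n) {F : X.Modules} (hF : FlatMod.IsFinLocFree F) {x : X}
    (hx : IsClosed ({x} : Set X)) :
    (n : ℕ∞) ≤ LocCoh.depth (X.presheaf.stalk x) (F.presheaf.stalk x) := by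
  haveI := WeilExt.isRegularLocalRing_stalk_of_smooth (X ↘ Spec (CommRingCat.of k)) x
  have hd := SmDim19.ringKrullDim_stalk_closed (X ↘ Spec (CommRingCat.of k)) hn hx
  rw [← IsRegularLocalRing.spanFinrank_maximalIdeal] at hd
  have h₁ := Pur25.le_depth_of_regular (A := X.presheaf.stalk x) (d := n) (by exact_mod_cast hd)
  obtain ⟨r, D, e, hxD, he⟩ := PushUnit3.exists_isBas_nhd' hF x
  let L : (Fin r → X.presheaf.stalk x) →ₗ[X.presheaf.stalk x] F.presheaf.stalk x :=
    Fintype.linearCombination (X.presheaf.stalk x) fun i => (F.presheaf.germ D x hxD (e i) : F.presheaf.stalk x)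
  have hL : Function.Bijective L := he.stalk hxD
  exact h₁.trans ((DepthLib.idealDepth_le_pi _ r).trans
    (DepthLib.idealDepth_congr (LinearEquiv.ofBijective L hL)).le)

include k in
/-- Serre vanishing for all forms at once. -/
theorem exists_pos [Smooth (X ↘ Spec (CommRingCat.of k))] {n : ℕ} (hn : topologicalKrullDim X ≤ n) {L : X.Modules}
    (hL : CohB1.IsAmple L) : ∃ m₀ : ℕ, ∀ m, m₀ ≤ m → ∀ c a : ℕ, 1 ≤ a → Subsingleton (Coh.HH X
      (CohB1.tensorMod (Wedge2.extMod c (Omega.sheaf (X ↘ Spec (CommRingCat.of k)))) (CohB1.tensorPow L m)) a) := by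
  haveI : AlgebraicGeometry.IsNoetherian X := CohFound.isNoetherian_of_isProper (X ↘ Spec (CommRingCat.of k))
  have hΩ := Omega12.isFinLocFree_receptacle_of_smooth (X ↘ Spec (CommRingCat.of k)) (Omega12.isUniversal_dOmega _)
  choose m₁ hm₁ using fun c : Fin (n + 1) => CohFound.exists_vanishing_all (X ↘ Spec (CommRingCat.of k)) hL
    (CohFound.isCoh_of_isFinLocFree (isFinLocFree_E hΩ c.1))
  refine ⟨Finset.univ.sup m₁, fun m hm c a ha => ?_⟩
  by_cases hc : c ≤ n
  · exact (CohFound.subsingleton_HH_iff _ a).2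
      (hm₁ ⟨c, by omega⟩ m ((Finset.le_sup (Finset.mem_univ _)).trans hm) a ha)
  · refine subsingleton_of_forall_eq 0 fun x => ?_
    have hz : IsZero (CohB1.tensorMod (Wedge2.extMod c (Omega.sheaf (X ↘ Spec (CommRingCat.of k))))
        (CohB1.tensorPow L m)) := Functor.map_isZero (M2.tensorR _) (isZero_forms k hn (not_le.1 hc))
    rw [← CurveCoh17.hmap_id k _ a x, hz.eq_of_src (𝟙 _) 0, CurveCoh17.hmap_zero]

include k in
/-- Enriques–Severi vanishing for all forms at once. -/
theorem exists_neg [Smooth (X ↘ Spec (CommRingCat.of k))] [IrreducibleSpace X] {n : ℕ}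
    (hn : topologicalKrullDim X = n) {L L' : X.Modules} (hL : CohB1.IsAmple L)
    (e : CohB1.tensorMod L L' ≅ Coh.structureModule X) : ∃ m₀ : ℕ, ∀ m, m₀ ≤ m → ∀ c q : ℕ, c + q < n →
      Subsingleton (Coh.HH X
        (CohB1.tensorMod (Wedge2.extMod c (Omega.sheaf (X ↘ Spec (CommRingCat.of k)))) (CohB1.tensorPow L' m)) q) := by
  cases n with
  | zero => exact ⟨0, fun m _ c q h => absurd h (Nat.not_lt_zero _)⟩
  | succ n =>
    haveI : AlgebraicGeometry.IsNoetherian X := CohFound.isNoetherian_of_isProper (X ↘ Spec (CommRingCat.of k))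
    have hΩ := Omega12.isFinLocFree_receptacle_of_smooth (X ↘ Spec (CommRingCat.of k)) (Omega12.isUniversal_dOmega _)
    choose m₁ hm₁ using fun c : Fin (n + 1) => ES11.exists_forall_subsingleton_inverse k hL e
      (CohFound.isCoh_of_isFinLocFree (isFinLocFree_E hΩ c.1)) n
      fun x hx => lt_of_lt_of_le (by exact_mod_cast Nat.lt_succ_self n) (lt_depth k hn (isFinLocFree_E hΩ c.1) hx)
    exact ⟨Finset.univ.sup m₁, fun m hm c q h =>
      hm₁ ⟨c, by omega⟩ m ((Finset.le_sup (Finset.mem_univ _)).trans hm) q (by omega)⟩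

end Groth.Agent.HdgLef1

namespace Groth.Agent.HdgLef1

/-- The dimension of an irreducible scheme smooth of relative dimension `n` over a field. -/
theorem dim_eq_of_smoothOfRelativeDimension (k : Type u) [Field k] {X : Scheme.{u}}
    (f : X ⟶ Spec (CommRingCat.of k)) [IrreducibleSpace X] (n : ℕ) [SmoothOfRelativeDimension n f] :
    topologicalKrullDim X = n := by
  haveI : Smooth f := SmoothOfRelativeDimension.smooth n f
  haveI : JacobsonSpace X := LocallyOfFiniteType.jacobsonSpace f
  obtain ⟨z, -, hz⟩ := nonempty_inter_closedPoints (X := X) (Z := (Set.univ : Set X))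
    Set.univ_nonempty isClosed_univ.isLocallyClosed
  have h := VarDim.dim_eq_sdim_genericPoint f
  have h1 := (SmDim19.ringKrullDim_stalk_closed f h hz).symm.trans (SmDim19.ringKrullDim_stalk_of_isClosed f n hz)
  rw [h, h1]

end Groth.Agent.HdgLef1
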