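import Groth.Agent.Lib.HdgLef1.Induct
import Groth.Agent.Lib.HdgLef1.Geo
import Groth.Agent.Lib.CIProj14.Hyp
import Groth.Agent.Lib.CIProj14.Nzd
import Groth.Agent.Lib.SmImm2.Main
import Groth.Agent.Lib.PairIso.Tilde
import Groth.Agent.Lib.UVan10.Systems
import Groth.Agent.Lib.FundIso12.PureDim
import Groth.Prelude.Def_Lef

/-!
# The conormal sheaf of a smooth complete intersection

It is the sum of the twists by the negatives of the degrees; hence the Hodge cohomology follows.
-/

set_option autoImplicit false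
set_option linter.style.haveILetI false
set_option linter.unusedSectionVars false
set_option backward.isDefEq.respectTransparency false
set_option backward.isDefEq.respectTransparency.types false
set_option maxHeartbeats 1000000

universe u

open CategoryTheory CategoryTheory.Limits AlgebraicGeometry TopologicalSpace Opposite

noncomputable section

attribute [local instance] MvPolynomial.gradedAlgebra

namespace Groth.Agent.HdgLef1

open Groth.Agent

section Ideal

variable {X : Scheme.{u}} {I J : X.IdealSheafData}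

theorem toSubscheme_quotMap (h : I ≤ J) :
    ClSub.toSubscheme I ≫ Lef.quotMap h = ClSub.toSubscheme J := by
  ext W s
  exact (ConcreteCategory.congr_hom
    (Scheme.Hom.congr_app (Scheme.IdealSheafData.inclusion_subschemeι h).symm W) s).symm

/-- The inclusion of ideals as modules. -/
def idealMap (h : I ≤ J) : ClSub.idealMod I ⟶ ClSub.idealMod J :=
  kernel.lift _ (ClSub.idealModι I) (by
    rw [← toSubscheme_quotMap h, ← Category.assoc]
    simp [ClSub.idealModι])

theorem idealIncl_idealMap (h : I ≤ J) {U : X.Opens} (a : Γ(ClSub.idealMod I, U)) :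
    M2.idealIncl J ((idealMap h).app U a) = M2.idealIncl I a :=
  congrArg (fun φ : ClSub.idealMod I ⟶ Coh.structureModule X => φ.app U a) (kernel.lift_ι _ _ _)

end Ideal

/-- An epimorphism onto an ideal gives one onto the conormal module. -/
theorem exists_epi_conormal {X : Scheme.{u}} (I : X.IdealSheafData) {r : ℕ} (L : Fin r → X.Modules)
    (ψ : (∐ L) ⟶ ClSub.idealMod I) [Epi ψ] :
    ∃ χ : (∐ fun l => (Scheme.Modules.pullback I.subschemeι).obj (L l)) ⟶ Omega.conormal I.subschemeι, Epi χ := by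
  let e₀ : ClSub.idealMod I ≅ ClSub.idealMod I.subschemeι.ker :=
    eqToIso (congrArg ClSub.idealMod (Scheme.IdealSheafData.ker_subschemeι _).symm)
  haveI : Epi (ψ ≫ e₀.hom) := epi_comp _ _
  exact ⟨(PreservesCoproduct.iso (Scheme.Modules.pullback I.subschemeι) L).inv ≫
    (Scheme.Modules.pullback I.subschemeι).map (ψ ≫ e₀.hom), epi_comp _ _⟩

/-- Replacing the first term of an exact sequence by an isomorphic one. -/
theorem exists_shortExact_precomp {X : Scheme.{u}} {A A' B C : X.Modules} {f : A ⟶ B} {g : B ⟶ C} {w : f ≫ g = 0}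
    (hT : (ShortComplex.mk f g w).ShortExact) (χ : A' ⟶ A) [IsIso χ] :
    ∃ (f' : A' ⟶ B) (w' : f' ≫ g = 0), (ShortComplex.mk f' g w').ShortExact :=
  ⟨χ ≫ f, by rw [Category.assoc, w, comp_zero], ShortComplex.shortExact_of_iso
    (ShortComplex.isoMk (S₁ := ShortComplex.mk (χ ≫ f) g (by rw [Category.assoc, w, comp_zero]))
      (S₂ := ShortComplex.mk f g w) (asIso χ) (Iso.refl _) (Iso.refl _) (by simp) (by simp)).symm hT⟩

variable {k : Type u} [Field k] {m : ℕ}

local notation "PS" => CohB1.ProjSpace m k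
local notation "O(" i ")" => _root_.Twist.twistProjSpace m k i

theorem dehom_eq_zero {d : ℕ} (G : LefPen.Form m k d) (hG : G.1 = 0) (j : Fin (m + 1)) :
    LefPen.dehom G j = 0 := by
  rw [LefPen.dehom]
  refine (congrArg _ ?_).trans (map_zero _)
  apply HomogeneousLocalization.val_injective
  simp [HomogeneousLocalization.Away.val_mk, hG, Localization.mk_zero]

/-- A twist maps to the ideal of a complete intersection through the generator of each form. -/
theorem exists_gen {r : ℕ} {a : Fin r → ℕ} (G : ∀ l, LefPen.Form m k (a l)) (l : Fin r) :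
    ∃ ν : O(-(a l : ℤ)) ⟶ ClSub.idealMod (LefPen.ciIdeal G), ∀ j, ∃ q : Γ(O(-(a l : ℤ)), LefPen.chart m k j),
      M2.idealIncl (LefPen.ciIdeal G) (ν.app _ q) = LefPen.dehom (G l) j := by
  by_cases hG : (G l).1 = 0
  · refine ⟨0, fun j => ⟨0, ?_⟩⟩
    rw [dehom_eq_zero _ hG]
    exact map_zero ((ClSub.idealModι _).app _).hom
  · obtain ⟨e⟩ := CIProj14.nonempty_idealMod_hypIdeal (G l) hG
    have hle : LefPen.hypIdeal (G l) ≤ LefPen.ciIdeal G := le_iSup (fun l => LefPen.hypIdeal (G l)) l
    refine ⟨e.inv ≫ idealMap hle, fun j => ?_⟩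
    obtain ⟨s, hs⟩ : LefPen.dehom (G l) j ∈ Set.range (M2.idealIncl (LefPen.hypIdeal (G l))) := by
      rw [M2.range_idealIncl _ ⟨LefPen.chart m k j, ProjDim18.isAffineOpen_chart j⟩, LefPen13.hypIdeal_chart]
      exact Ideal.subset_span rfl
    refine ⟨e.hom.app _ s, ?_⟩
    refine (idealIncl_idealMap hle _).trans (Eq.trans ?_ hs)
    exact congrArg (M2.idealIncl _) (congrArg (fun φ : ClSub.idealMod (LefPen.hypIdeal (G l)) ⟶ _ =>
      φ.app (LefPen.chart m k j) s) e.hom_inv_id)

/-- The ideal of a complete intersection is a quotient of the sum of twists. -/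
theorem exists_epi_ciIdeal {r : ℕ} {a : Fin r → ℕ} (G : ∀ l, LefPen.Form m k (a l)) :
    ∃ ψ : (∐ fun l : Fin r => O(-(a l : ℤ))) ⟶ ClSub.idealMod (LefPen.ciIdeal G), Epi ψ := by
  choose ν q hq using exists_gen G
  refine ⟨Sigma.desc ν, UVan10.epi_of_surjective_affines (M2.isQCoh_idealMod _) _ fun x => ?_⟩
  obtain ⟨j, hj⟩ := Opens.mem_iSup.1 ((ProjSpace.iSup_basicOpen m k).ge (trivial : x ∈ (⊤ : (PS).Opens)))
  refine ⟨LefPen.chart m k j, ProjDim18.isAffineOpen_chart j, hj, fun s => ?_⟩
  have hs : M2.idealIncl (LefPen.ciIdeal G) s ∈ Ideal.span (Set.range fun l => LefPen.dehom (G l) j) := by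
    rw [← CIProj14.ciIdeal_chart]
    exact (M2.range_idealIncl _ ⟨LefPen.chart m k j, ProjDim18.isAffineOpen_chart j⟩).le ⟨s, rfl⟩
  obtain ⟨c, hc⟩ := Ideal.mem_span_range_iff_exists_fun.1 hs
  refine ⟨∑ l, c l • (Sigma.ι (fun l : Fin r => O(-(a l : ℤ))) l).app _ (q l j), ?_⟩
  refine M2.idealIncl_injective _ _ (Eq.trans ?_ hc)
  show (ClSub.idealModι _).app _ ((UVan10.secL (Sigma.desc ν) _) _) = _
  rw [map_sum, map_sum]
  refine Finset.sum_congr rfl fun l _ => ?_
  rw [map_smul]
  refine (M2.idealIncl_smul _ _ _).trans (congrArg (c l * ·) ?_)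
  refine Eq.trans (congrArg (M2.idealIncl _) ?_) (hq l j)
  exact congrArg (fun φ : O(-(a l : ℤ)) ⟶ _ => φ.app (LefPen.chart m k j) (q l j)) (Sigma.ι_desc ν l)

theorem rank_sum {X : Scheme.{u}} : ∀ {d : ℕ} (L : Fin d → X.Modules), (∀ l, PicF.IsInvertible (L l)) →
    FlatMod.IsFinLocFreeOfRank d (∐ L) := by
  intro d
  induction d with
  | zero =>
    intro L _
    exact M2.isFinLocFreeOfRank_of_iso (((IsZero.iff_id_eq_zero _).2 (Sigma.hom_ext _ _ fun i => i.elim0)).iso
      ((IsZero.iff_id_eq_zero _).2 (Sigma.hom_ext _ _ fun i => i.elim0))) (M2.isFinLocFreeOfRank_freeMod X 0)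
  | succ d ih =>
    intro L hL
    have h := DetSES2.isFinLocFreeOfRank_middle _ (shortExact_sum L)
      (M2.isQCoh_of_isFinLocFree (isFinLocFree_sum L fun l => M2.isFinLocFree_of_isInvertible (hL l)))
      ((M2.isInvertible_iff_isFinLocFreeOfRank_one _).1 (hL _)) (ih _ fun l => hL _)
    rwa [Nat.add_comm] at h

theorem dim_le_of_smooth {X : Scheme.{u}} (f : X ⟶ Spec (CommRingCat.of k)) [NoetherianSpace X] (n : ℕ)
    [SmoothOfRelativeDimension n f] : topologicalKrullDim X ≤ (n : WithBot ℕ∞) := by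
  haveI : Smooth f := SmoothOfRelativeDimension.smooth n f
  rw [VarDim.dim_eq_iSup_sdim f]
  refine iSup_le fun x => ?_
  let Z := irreducibleComponent x
  have hZ : Z ∈ irreducibleComponents X := irreducibleComponent_mem_irreducibleComponents x
  have hc : IsClosed Z := isClosed_irreducibleComponent
  rw [← FundIso12.dim_component_of_smooth f n hZ, VarDim.dim_irreducible_isClosed f hc hZ.1]
  have h : hZ.1.genericPoint ⤳ x := (hZ.1.isGenericPoint_genericPoint hc).specializes mem_irreducibleComponent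
  rcases eq_or_ne hZ.1.genericPoint x with he | he
  · rw [he]
  · exact_mod_cast (VarDim.sdim_lt_of_specializes f h he).le

/-- The forms of a smooth complete intersection. -/
theorem filtForms_ci {n d : ℕ} (hnd : n + d = m) (hd : 1 ≤ d) (a : Fin d → ℕ) (ha : ∀ l, 1 ≤ a l)
    (G : ∀ l : Fin d, LefPen.Form m k (a l))
    [SmoothOfRelativeDimension n ((LefPen.ciIdeal G).subschemeι ≫ CohB1.ProjSpace.toSpec m k)] :
    FiltForms (LefPen.ciIdeal G).subschemeι
      (Omega.sheaf ((LefPen.ciIdeal G).subschemeι ≫ CohB1.ProjSpace.toSpec m k)) n 0 0 := by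
  let ι := (LefPen.ciIdeal G).subschemeι
  let π := CohB1.ProjSpace.toSpec m k
  haveI : IsProper π := ProjSpace.isProper_toSpec m k
  haveI : SmoothOfRelativeDimension m π := ProjSpace.smoothOfRelativeDimension_toSpec m k
  haveI : AlgebraicGeometry.IsNoetherian (LefPen.ciIdeal G).subscheme :=
    CohFound.isNoetherian_of_isProper (ι ≫ π)
  obtain ⟨T, hT, h₁, h₂, h₃, hC, -, hQ⟩ := SmImm2.exists_conormal_ses π ι m n
  obtain @⟨X₁, X₂, X₃, f, g, w⟩ := T
  dsimp only at h₁ h₂ h₃
  subst h₁; subst h₂; subst h₃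
  obtain ⟨ψ, hψ⟩ := exists_epi_ciIdeal G
  obtain ⟨χ, hχ⟩ := exists_epi_conormal _ _ ψ
  rw [show m - n = d by omega] at hC
  haveI : IsIso χ := PairIso.isIso_of_epi_rank (rank_sum _ fun l =>
    Twist.isInvertible_pullback ι (Twist.isInvertible_twistProjSpace m k _)) hC χ
  obtain ⟨f', w', hS⟩ := exists_shortExact_precomp hT χ
  have hdim := dim_le_of_smooth (ι ≫ π) n
  have hci := ciForms_ciIdeal (k := k) (m := m) (by omega) d a G ha (by omega)
    (by rwa [show m - d = n by omega])
  rw [show m - d = n by omega] at hci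
  exact filtForms_quotient ι a ha _ _ f' g w' hS (M2.isFinLocFree_of_ofRank hQ)
    (filtForms_of_ciForms ι hnd hci)

/-- Twisting by zero. -/
theorem nonempty_twE_zero {Y : Scheme.{u}} (j : Y ⟶ PS) (E : Y.Modules) (p : ℕ) :
    Nonempty (twE j E p 0 ≅ Wedge2.extMod p E) := by
  obtain ⟨z⟩ := Twist.nonempty_twist_zero_iso (CohB1.polyGrading m k)
  exact ⟨M2.tensorIso (Iso.refl _) ((Scheme.Modules.pullback j).mapIso z ≪≫ PicLoc.pullbackStructureIso j) ≪≫
    M2.tensorRUnit _⟩

end Groth.Agent.HdgLef1
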