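import Mathlib.RingTheory.Kaehler.JacobiZariski
import Mathlib.RingTheory.Smooth.Kaehler
import Mathlib.RingTheory.Smooth.Basic
import Mathlib.Algebra.CharP.Frobenius
import Mathlib.RingTheory.Finiteness.Basic
import Mathlib.Algebra.Module.Projective
import Mathlib.Algebra.CharP.Algebra
import Mathlib.RingTheory.TensorProduct.Finite
import Mathlib.RingTheory.Finiteness.Prod
import Mathlib.LinearAlgebra.Basis.VectorSpace
import Mathlib.RingTheory.EssentialFiniteness

/-!
# Differentials over an absolute base

Over a field with finite Frobenius the absolute differentials of a smooth algebra are finite projective.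
-/

set_option autoImplicit false

universe u

open TensorProduct

namespace Groth.Agent.HdgLef1

/-- Differentials vanishing on a subring over which the field is finite form a finite module. -/
theorem finite_kaehler_of_finite {R K k k₀ : Type u} [CommRing R] [Field K] [CommRing k] [CommRing k₀]
    [Algebra R K] [Algebra k₀ k] [Module.Finite k₀ k] (e : K ≃+* k)
    (hD : ∀ c : k₀, KaehlerDifferential.D R K (e.symm (algebraMap k₀ k c)) = 0) :
    Module.Finite K (KaehlerDifferential R K) := by
  classical
  obtain ⟨s, hs⟩ := (Module.Finite.fg_top : (⊤ : Submodule k₀ k).FG)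
  let D := KaehlerDifferential.D R K
  let N : Submodule K (KaehlerDifferential R K) := Submodule.span K ↑(s.image fun a => D (e.symm a))
  have hN : ∀ x : k, D (e.symm x) ∈ N := by
    intro x
    have hx : x ∈ Submodule.span k₀ (s : Set k) := by rw [hs]; trivial
    induction hx using Submodule.span_induction with
    | zero => simp
    | add x y _ _ hx hy => rw [map_add, map_add]; exact add_mem hx hy
    | mem x hx => exact Submodule.subset_span (Finset.mem_coe.2 (Finset.mem_image.2 ⟨x, hx, rfl⟩))
    | smul c x _ hx =>
      rw [Algebra.smul_def, map_mul, Derivation.leibniz, hD, smul_zero, add_zero]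
      exact N.smul_mem _ hx
  refine Module.Finite.of_fg_top ⟨s.image fun a => D (e.symm a), top_unique ?_⟩
  rw [← KaehlerDifferential.span_range_derivation R K, Submodule.span_le]
  rintro _ ⟨y, rfl⟩
  rw [← e.symm_apply_apply y]
  exact hN (e y)

/-- If the Frobenius of a field is finite, its differentials over any ring are finite-dimensional. -/
theorem finite_kaehler_of_frobenius {R K k : Type u} [CommRing R] [Field k] [Field K] [Algebra R K] (e : K ≃+* k)
    (p : ℕ) [Fact p.Prime] [CharP k p] (hF : (frobenius k p).Finite) :
    Module.Finite K (KaehlerDifferential R K) := by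
  refine @finite_kaehler_of_finite R K k k _ _ _ _ _ (frobenius k p).toAlgebra hF e fun c => ?_
  haveI : CharP K p := RingHom.charP e.toRingHom e.injective p
  show KaehlerDifferential.D R K (e.symm (frobenius k p c)) = 0
  rw [frobenius_def, map_pow, Derivation.leibniz_pow, ← Nat.cast_smul_eq_nsmul K, CharP.cast_eq_zero K p,
    zero_smul]

/-- A formally smooth algebra of finite type over such a field has finite projective absolute differentials. -/
theorem finite_projective_kaehler {R K A : Type u} [CommRing R] [Field K] [CommRing A] [Algebra R K] [Algebra K A]
    [Algebra R A] [IsScalarTower R K A] [Algebra.FormallySmooth K A] [Algebra.FiniteType K A]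
    [Module.Finite K (KaehlerDifferential R K)] :
    Module.Finite A (KaehlerDifferential R A) ∧ Module.Projective A (KaehlerDifferential R A) := by
  let f := KaehlerDifferential.mapBaseChange R K A
  let g := KaehlerDifferential.map R K A A
  have hex : Function.Exact f g := KaehlerDifferential.exact_mapBaseChange_map R K A
  have hg : Function.Surjective g := KaehlerDifferential.map_surjective R K A
  have hf : Function.Injective f := (injective_iff_map_eq_zero f).2 fun x hx => by
    obtain ⟨y, rfl⟩ := (Algebra.H1Cotangent.exact_δ_mapBaseChange R K A x).1 hx
    rw [Subsingleton.elim y 0, map_zero]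
  obtain ⟨l, hl⟩ := Module.projective_lifting_property g LinearMap.id hg
  let E := ((hex.splitSurjectiveEquiv hf) ⟨l, hl⟩).1
  exact ⟨Module.Finite.equiv E.symm, Module.Projective.of_equiv E.symm⟩

end Groth.Agent.HdgLef1
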