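import Groth.Agent.Lib.HdgLef1.Geo
import Groth.Agent.Lib.HdgLef1.AbsAlg

/-!
# The conormal sequence with absolute differentials
-/

set_option autoImplicit false
set_option linter.style.haveILetI false
set_option linter.unusedSectionVars false
set_option backward.isDefEq.respectTransparency false
set_option backward.isDefEq.respectTransparency.types false
set_option maxHeartbeats 1000000

universe u

open CategoryTheory CategoryTheory.Limits AlgebraicGeometry TopologicalSpace Opposite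

noncomputable section

namespace Groth.Agent.HdgLef1

open Groth.Agent

/-- A derivation over `S` is one over any base of `S`. -/
def restrictBase {X S T : Scheme.{u}} {x : X ⟶ S} (b : S ⟶ T) {F : X.Modules} (D : OmegaSh.Der x F) :
    OmegaSh.Der (x ≫ b) F where
  d := D.d
  d_mul := D.d_mul
  d_map := D.d_map
  d_app {V} a := D.d_app (X := op (b ⁻¹ᵁ V.unop)) (b.app V.unop a)

theorem restrictBase_app {X S T : Scheme.{u}} {x : X ⟶ S} (b : S ⟶ T) {F : X.Modules} (D : OmegaSh.Der x F)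
    (U : X.Opens) (s : Γ(X, U)) : (restrictBase b D).app U s = D.app U s := rfl

variable {k : Type u} [Field k] {X T : Scheme.{u}}

/-- Absolute differentials of a smooth scheme over a field with finite Frobenius are locally free. -/
theorem isFinLocFree_abs (p : ℕ) [Fact p.Prime] [CharP k p] (hF : (frobenius k p).Finite)
    (x : X ⟶ Spec (CommRingCat.of k)) [Smooth x] [QuasiSeparated x] [IsAffine T]
    (b : Spec (CommRingCat.of k) ⟶ T) : FlatMod.IsFinLocFree (Omega.sheaf (x ≫ b)) := by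
  let t := x ≫ b
  have hd := Omega12.isUniversal_dOmega (f := t)
  refine DPerf.isFinLocFree_of_locally fun z => ?_
  obtain ⟨-, U, -, hU, hzU, -, -⟩ := Omega26.exists_chart t z ⊤ trivial
  refine ⟨_, hU.fromSpec, inferInstance, hU.range_fromSpec.ge hzU, ?_⟩
  let hx : U ≤ x ⁻¹ᵁ ⊤ := le_top
  let hb : (⊤ : (Spec (CommRingCat.of k)).Opens) ≤ b ⁻¹ᵁ ⊤ := le_top
  let ht : U ≤ t ⁻¹ᵁ ⊤ := le_top
  let e : Γ(Spec (CommRingCat.of k), ⊤) ≃+* k := (Scheme.ΓSpecIso (CommRingCat.of k)).commRingCatIsoToRingEquiv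
  letI : Field Γ(Spec (CommRingCat.of k), ⊤) := (e.toMulEquiv.isField (Field.toIsField k)).toField
  letI : Algebra Γ(T, ⊤) Γ(X, U) := (t.appLE ⊤ U ht).hom.toAlgebra
  letI : Algebra Γ(Spec (CommRingCat.of k), ⊤) Γ(X, U) := (x.appLE ⊤ U hx).hom.toAlgebra
  letI : Algebra Γ(T, ⊤) Γ(Spec (CommRingCat.of k), ⊤) := (b.appLE ⊤ ⊤ hb).hom.toAlgebra
  haveI : IsScalarTower Γ(T, ⊤) Γ(Spec (CommRingCat.of k), ⊤) Γ(X, U) := IsScalarTower.of_algebraMap_eq' <| by
    show (t.appLE ⊤ U ht).hom = (x.appLE ⊤ U hx).hom.comp (b.appLE ⊤ ⊤ hb).hom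
    rw [← CommRingCat.hom_comp]
    exact congrArg CommRingCat.Hom.hom (Scheme.Hom.appLE_comp_appLE x b ⊤ ⊤ U hb hx).symm
  haveI : Algebra.FiniteType Γ(Spec (CommRingCat.of k), ⊤) Γ(X, U) :=
    x.finiteType_appLE (isAffineOpen_top _) hU hx
  haveI : Algebra.FormallySmooth Γ(Spec (CommRingCat.of k), ⊤) Γ(X, U) :=
    SmoothLift15.formallySmooth_appLE x (SmoothLift15.isFormallySmoothHom_of_smooth x) hU (isAffineOpen_top _) hx
  haveI := finite_kaehler_of_frobenius (R := Γ(T, ⊤)) e p hF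
  obtain ⟨hfin, hproj⟩ := finite_projective_kaehler (R := Γ(T, ⊤)) (K := Γ(Spec (CommRingCat.of k), ⊤))
    (A := Γ(X, U))
  obtain ⟨i⟩ := Omega12.nonempty_restrict_fromSpec_iso (Omega12.isQCoh_receptacle t hd) hU
    (ModuleCat.of Γ(X, U) (KaehlerDifferential Γ(T, ⊤) Γ(X, U)))
    (Omega12.sectLinEquiv t hd hU (isAffineOpen_top _) ht).symm
  exact M2.isFinLocFree_of_iso i.symm DPerf.isFinLocFree_tilde

/-- The conormal sequence of a smooth divisor with absolute differentials. -/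
theorem conormal_abs (p : ℕ) [Fact p.Prime] [CharP k p] (hF : (frobenius k p).Finite)
    (x : X ⟶ Spec (CommRingCat.of k)) [Smooth x] [QuasiSeparated x] [IsAffine T]
    (b : Spec (CommRingCat.of k) ⟶ T) (I : X.IdealSheafData) [Smooth (I.subschemeι ≫ x)]
    (hM : PicF.IsInvertible (ClSub.idealMod I)) :
    Conormal I (Omega.sheaf (x ≫ b)) (Omega.sheaf (I.subschemeι ≫ x ≫ b)) := by
  let i := I.subschemeι
  haveI : QuasiSeparated (i ≫ x) := inferInstance
  have hd := Omega12.isUniversal_dOmega (f := x)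
  have hd' := Omega12.isUniversal_dOmega (f := x ≫ b)
  have hY := Omega12.isUniversal_dOmega (f := i ≫ x ≫ b)
  obtain ⟨φ, hφ, -⟩ := GrMap12.existsUnique_conormalDiff (i := i) (OmegaSh.dOmega (x ≫ b))
  obtain ⟨φ₀, hφ₀, huniq⟩ := GrMap12.existsUnique_conormalDiff (i := i) (OmegaSh.dOmega x)
  obtain ⟨α, hα, -⟩ := hd' _ (restrictBase b (OmegaSh.dOmega x))
  have hα' : ∀ U s, α.app U ((OmegaSh.dOmega (x ≫ b)).app U s) = (OmegaSh.dOmega x).app U s := fun U s => by
    rw [← restrictBase_app b (OmegaSh.dOmega x) U s, ← hα]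
    rfl
  haveI : Mono φ := by
    haveI : Mono φ₀ := GrMap12.mono_conormalDiff_of_formallySmooth
      (SmoothLift15.isFormallySmoothHom_of_smooth (i ≫ x)) hd hφ₀
    have h : φ ≫ (Scheme.Modules.pullback i).map α = φ₀ := huniq _ fun U s => by
      show ((Scheme.Modules.pullback i).map α).app (i ⁻¹ᵁ U) (φ.app (i ⁻¹ᵁ U) (OmegaSh.conormalSect i U s)) = _
      rw [hφ U s, ← hα']
      exact (congrArg (fun ψ => ψ.app U ((OmegaSh.dOmega (x ≫ b)).app U (OmegaSh.idealSect i.ker U s)))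
        ((Scheme.Modules.pullbackPushforwardAdjunction i).unit.naturality α)).symm
    exact mono_of_mono_fac h
  obtain ⟨c, hc, -⟩ := Omega12.existsUnique_diffCompat (h := i) (f := x ≫ b) (f' := i ≫ x ≫ b) (b := 𝟙 T)
    (Category.comp_id _) hd' (OmegaSh.dOmega (i ≫ x ≫ b))
  obtain ⟨h0, hex, hepi⟩ := Omega12.exact_immersion i _ _ hd' _ _ hY φ hφ c hc
  haveI := hepi
  refine ⟨hM, isFinLocFree_abs p hF x b, ?_,
    ShortComplex.mk φ c h0, ShortComplex.ShortExact.mk' hex inferInstance inferInstance,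
    ⟨(Scheme.Modules.pullback i).mapIso (eqToIso (congrArg ClSub.idealMod I.ker_subschemeι))⟩,
    ⟨Iso.refl _⟩, ⟨Iso.refl _⟩⟩
  rw [← Category.assoc]
  exact isFinLocFree_abs p hF (i ≫ x) b

end Groth.Agent.HdgLef1
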