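import Groth.Agent.Lib.HdgLef1.Main
import Groth.Agent.Lib.Euler2.Hodge
import Groth.Agent.Lib.CIProj14.Van
import Groth.Agent.Lib.CIProj14.Step

/-!
# Twisted forms of projective space on a complete intersection

By induction along the chain of hypersurface sections: `H^q(X, Ω^p_P(t)|_X)` below the dimension for `t ≤ 0` and
above the middle for `t` at least the sum of the degrees.
-/

set_option autoImplicit false
set_option linter.style.haveILetI false
set_option linter.unusedSectionVars false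
set_option backward.isDefEq.respectTransparency false
set_option backward.isDefEq.respectTransparency.types false
set_option maxHeartbeats 1000000

universe u

open CategoryTheory CategoryTheory.Limits AlgebraicGeometry TopologicalSpace Opposite

noncomputable section

namespace Groth.Agent.HdgLef1

open Groth.Agent CurveCoh17

section LES

variable (k : Type u) [CommRing k] {X : Scheme.{u}} [X.Over (Spec (CommRingCat.of k))]
  {S : ShortComplex X.Modules} (hS : S.ShortExact)
include k hS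

theorem nonempty_delta_equiv {q : ℕ} (h₂ : Subsingleton (Coh.HH X S.X₂ q))
    (h₂' : Subsingleton (Coh.HH X S.X₂ (q + 1))) :
    Nonempty (Coh.HH X S.X₃ q ≃ₗ[k] Coh.HH X S.X₁ (q + 1)) := by
  refine ⟨LinearEquiv.ofBijective (hdelta k hS q) ⟨(injective_iff_map_eq_zero _).2 fun x hx => ?_, fun x => ?_⟩⟩
  · obtain ⟨y, rfl⟩ := (exact_hmap_hdelta k hS q x).1 hx
    rw [Subsingleton.elim y 0, map_zero]
  · exact (exact_hdelta_hmap k hS q x).1 (Subsingleton.elim _ _)

end LES

variable {k : Type u} [Field k] {m : ℕ}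

local notation "PS" => CohB1.ProjSpace m k
local notation "O(" d ")" => _root_.Twist.twistProjSpace m k d

/-- A twist of a module of forms of projective space. -/
abbrev tw (p : ℕ) (t : ℤ) : (CohB1.ProjSpace m k).Modules := CohB1.tensorMod (Euler2.Om m k p) O(t)

/-- A twist of a module of forms of projective space, restricted. -/
abbrev twR {X : Scheme.{u}} (j : X ⟶ PS) (p : ℕ) (t : ℤ) : X.Modules :=
  (Scheme.Modules.pullback j).obj (tw p t)

/-- The structure over `k` through projective space. -/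
abbrev overP {X : Scheme.{u}} (j : X ⟶ PS) : X.Over (Spec (CommRingCat.of k)) :=
  ⟨j ≫ CohB1.ProjSpace.toSpec m k⟩

theorem isFinLocFree_tw (p : ℕ) (t : ℤ) : FlatMod.IsFinLocFree (tw (k := k) (m := m) p t) :=
  M2.isFinLocFree_tensor (isFinLocFree_E (M2.isFinLocFree_of_ofRank (Euler2.rank_omega m k)) p)
    (M2.isFinLocFree_of_isInvertible (Twist.isInvertible_twistProjSpace m k t))

/-- The cohomology of twisted forms after restriction to a complete intersection of codimension `r`, dimension `M`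
and degree sum `S`. -/
structure CIForms {X : Scheme.{u}} (j : X ⟶ PS) (M r S : ℕ) : Prop where
  neg : ∀ (p q : ℕ) (t : ℤ), t < 0 → q < M → Subsingleton (Coh.HH X (twR j p t) q)
  zero : ∀ p q : ℕ, q < M → q ≠ p → Subsingleton (Coh.HH X (twR j p 0) q)
  low : ∀ p : ℕ, p < M → letI := overP j; Nonempty (Coh.HH X (twR j p 0) p ≃ₗ[k] k)
  high : ∀ (p q : ℕ) (t : ℤ), m < p + q → 1 ≤ q → (S : ℤ) ≤ t → ((S : ℤ) < t ∨ p ≠ q + r) →
    Subsingleton (Coh.HH X (twR j p t) q)
  top : ∀ q : ℕ, 1 ≤ q → q + r ≤ m → m < q + r + q →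
    letI := overP j; Nonempty (Coh.HH X (twR j (q + r) (S : ℤ)) q ≃ₗ[k] k)

/-- Restriction along an isomorphism does not change cohomology. -/
theorem nonempty_equiv_of_iso {X X' : Scheme.{u}} [X.Over (Spec (CommRingCat.of k))]
    [X'.Over (Spec (CommRingCat.of k))] (e : X' ⟶ X) [IsIso e]
    (he : e ≫ (X ↘ Spec (CommRingCat.of k)) = X' ↘ Spec (CommRingCat.of k)) {j : X ⟶ PS} {F : (PS).Modules}
    (hF : FlatMod.IsFinLocFree F) (q : ℕ) :
    Nonempty (Coh.HH X ((Scheme.Modules.pullback j).obj F) q ≃ₗ[k]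
      Coh.HH X' ((Scheme.Modules.pullback (e ≫ j)).obj F) q) := by
  let G := (Scheme.Modules.pullback j).obj F
  haveI := CIProj14.isIso_unit_of_isIso e G (M2.isQCoh_of_isFinLocFree (M2.isFinLocFree_pullback j hF))
  haveI : ((Scheme.Modules.pullback e).obj G).IsQuasicoherent :=
    M2.isQCoh_of_isFinLocFree (M2.isFinLocFree_pullback e (M2.isFinLocFree_pullback j hF))
  obtain ⟨ε⟩ := CurveCoh17.nonempty_hequiv_push k e he ((Scheme.Modules.pullback e).obj G) q
  exact ⟨(hequiv k (asIso ((Scheme.Modules.pullbackPushforwardAdjunction e).unit.app G)) q).trans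
    (ε.trans (hequiv k ((Scheme.Modules.pullbackComp e j).app F) q))⟩

theorem CIForms.of_iso {X X' : Scheme.{u}} {j : X ⟶ PS} {M r S : ℕ} (h : CIForms j M r S) (e : X' ⟶ X)
    [IsIso e] : CIForms (e ≫ j) M r S := by
  letI := overP j
  letI := overP (e ≫ j)
  have hε : ∀ (p : ℕ) (t : ℤ) (q : ℕ), Nonempty (Coh.HH X (twR j p t) q ≃ₗ[k] Coh.HH X' (twR (e ≫ j) p t) q) :=
    fun p t q => nonempty_equiv_of_iso e (Category.assoc _ _ _).symm (isFinLocFree_tw p t) q
  refine ⟨fun p q t ht hq => ?_, fun p q hq hqp => ?_, fun p hp => ?_, fun p q t h₁ h₂ h₃ h₄ => ?_,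
    fun q h₁ h₂ h₃ => ?_⟩
  · exact ((hε p t q).some).toEquiv.subsingleton_congr.1 (h.neg p q t ht hq)
  · exact ((hε p 0 q).some).toEquiv.subsingleton_congr.1 (h.zero p q hq hqp)
  · exact ⟨(hε p 0 p).some.symm.trans (h.low p hp).some⟩
  · exact ((hε p t q).some).toEquiv.subsingleton_congr.1 (h.high p q t h₁ h₂ h₃ h₄)
  · exact ⟨(hε _ _ q).some.symm.trans (h.top q h₁ h₂ h₃).some⟩

/-- Changing the structure map by an equality. -/
theorem nonempty_equiv_congr {X : Scheme.{u}} {f g : X ⟶ Spec (CommRingCat.of k)} (h : f = g) (M : X.Modules) (q : ℕ)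
    (hM : letI : X.Over (Spec (CommRingCat.of k)) := ⟨f⟩; Nonempty (Coh.HH X M q ≃ₗ[k] k)) :
    letI : X.Over (Spec (CommRingCat.of k)) := ⟨g⟩; Nonempty (Coh.HH X M q ≃ₗ[k] k) := by
  subst h; exact hM

/-- Projective space. -/
theorem ciForms_id (hm : 1 ≤ m) : CIForms (𝟙 PS) m 0 0 := by
  have hid : ∀ p t, twR (𝟙 PS) p t ≅ tw p t := fun p t => (Scheme.Modules.pullbackId PS).app (tw p t)
  have hz : ∀ p q, q ≠ p → Subsingleton (Coh.HH PS (twR (𝟙 PS) p 0) q) := fun p q h => by
    obtain ⟨z⟩ := Euler2.nonempty_Om_tensor_zero m k p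
    exact van_congr k (hid p 0 ≪≫ z).symm (Euler2.van_zero m k hm p q (Or.inl h))
  have hd : ∀ q, q ≤ m → letI := overP (𝟙 PS); Nonempty (Coh.HH PS (twR (𝟙 PS) q 0) q ≃ₗ[k] k) := fun q hq => by
    obtain ⟨z⟩ := Euler2.nonempty_Om_tensor_zero m k q
    obtain ⟨δ⟩ := Euler2.nonempty_diag m k q hq
    exact nonempty_equiv_congr (Category.id_comp _).symm _ q ⟨(hequiv k (hid q 0 ≪≫ z) q).trans δ⟩
  refine ⟨fun p q t ht hq => van_congr k (hid p t).symm (Euler2.van_neg m k ht p q hq), fun p q _ h => hz p q h,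
    fun p hp => hd p hp.le, fun p q t _ hq ht h => ?_, fun q _ hq _ => hd q (by omega)⟩
  rcases ht.lt_or_eq with ht' | ht'
  · exact van_congr k (hid p t).symm (Euler2.van_pos m k (by simpa using ht') p q hq)
  · obtain rfl : t = 0 := by simpa using ht'.symm
    exact hz p q (by rcases h with h | h <;> omega)

/-- Cutting by a regular form. -/
theorem CIForms.step {Y : Scheme.{u}} (i : Y ⟶ PS) [IsAffineHom i] {d M r S : ℕ} (hd : 1 ≤ d)
    (G : LefPen.Form m k d)
    (hnz : ∀ j, i.app (LefPen.chart m k j) (LefPen.dehom G j) ∈ nonZeroDivisors Γ(Y, LefPen13.V i j))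
    (h : CIForms i (M + 1) r S) :
    CIForms (((LefPen.hypIdeal G).comap i).subschemeι ≫ i) M (r + 1) (S + d) := by
  let I := (LefPen.hypIdeal G).comap i
  letI := overP i
  letI := overP (I.subschemeι ≫ i)
  have hov : I.subschemeι ≫ (Y ↘ Spec (CommRingCat.of k)) = I.subscheme ↘ Spec (CommRingCat.of k) :=
    (Category.assoc _ _ _).symm
  obtain ⟨τ⟩ := CIProj14.nonempty_idealMod_iso i G hnz
  have hlf : ∀ p t, FlatMod.IsFinLocFree (twR i p t) := fun p t => M2.isFinLocFree_pullback i (isFinLocFree_tw p t)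
  have hI : ∀ (p : ℕ) (t : ℤ), Nonempty (CohB1.tensorMod (twR i p t) (ClSub.idealMod I) ≅ twR i p (t - d)) := by
    intro p t
    obtain ⟨μ⟩ := Twist.nonempty_tensor_iso (CohB1.polyGrading m k) (m := t) (n := -(d : ℤ))
      (Twist.iSup_basicOpen_one m k)
    exact ⟨M2.tensorIso (Iso.refl _) τ ≪≫ (M2.pullTensorIso i _ _).symm ≪≫
      (Scheme.Modules.pullback i).mapIso (M2.tensorAssoc _ _ _ ≪≫ M2.tensorIso (Iso.refl _) μ)⟩
  have hpull : ∀ p t, res I (twR i p t) ≅ twR (I.subschemeι ≫ i) p t := fun p t =>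
    (Scheme.Modules.pullbackComp I.subschemeι i).app (tw p t)
  have hv : ∀ (p q : ℕ) (t : ℤ), Subsingleton (Coh.HH Y (twR i p t) q) →
      Subsingleton (Coh.HH Y (twR i p (t - d)) (q + 1)) →
      Subsingleton (Coh.HH I.subscheme (twR (I.subschemeι ≫ i) p t) q) := fun p q t h₁ h₂ =>
    van_congr k (hpull p t) (van_restr I k hov (hlf p t) h₁ (van_congr k (hI p t).some.symm h₂))
  refine ⟨fun p q t ht hq => hv p q t (h.neg p q t ht (by omega)) (h.neg p (q + 1) (t - d) (by omega) (by omega)),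
    fun p q hq hqp => hv p q 0 (h.zero p q (by omega) hqp) (h.neg p (q + 1) (0 - d) (by omega) (by omega)),
    fun p hp => ?_,
    fun p q t h₁ h₂ h₃ h₄ => hv p q t (h.high p q t h₁ h₂ (by omega) (Or.inl (by omega)))
      (h.high p (q + 1) (t - d) (by omega) (by omega) (by omega) (by omega)),
    fun q h₁ h₂ h₃ => ?_⟩
  · obtain ⟨ρ, hρ, hρ'⟩ := exists_restr_map I k hov (hlf p 0) (q := p)
      (van_congr k (hI p 0).some.symm (h.neg p p (0 - d) (by omega) (by omega)))
    obtain ⟨c⟩ := h.low p (by omega)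
    exact ⟨(hequiv k (hpull p 0) p).symm.trans ((LinearEquiv.ofBijective ρ ⟨hρ,
      hρ' (van_congr k (hI p 0).some.symm (h.neg p (p + 1) (0 - d) (by omega) (by omega)))⟩).symm.trans c)⟩
  · obtain ⟨p, hp⟩ : ∃ p, q + (r + 1) = p := ⟨_, rfl⟩
    rw [hp]
    obtain ⟨T, hT, ⟨e₁⟩, ⟨e₂⟩, ⟨e₃⟩⟩ := exists_restr_ses I (twR i p ((S + d : ℕ) : ℤ)) (hlf _ _)
    have h₀ : ∀ q', q ≤ q' → Subsingleton (Coh.HH Y (twR i p ((S + d : ℕ) : ℤ)) q') := fun q' hq' =>
      h.high p q' _ (by omega) (by omega) (by omega) (Or.inl (by omega))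
    obtain ⟨δ⟩ := nonempty_delta_equiv k hT (van_congr k e₂.symm (h₀ q le_rfl))
      (van_congr k e₂.symm (h₀ (q + 1) (by omega)))
    obtain ⟨ε⟩ := nonempty_push_equiv I k hov (res I (twR i p ((S + d : ℕ) : ℤ)))
      (M2.isQCoh_of_isFinLocFree (M2.isFinLocFree_pullback _ (hlf _ _))) q
    obtain ⟨c⟩ := h.top (q + 1) (by omega) (by omega) (by omega)
    obtain ⟨g⟩ := hI p ((S + d : ℕ) : ℤ)
    have hg : twR i p (((S + d : ℕ) : ℤ) - d) ≅ twR i (q + 1 + r) (S : ℤ) :=
      eqToIso (by rw [show (((S + d : ℕ) : ℤ) - d) = (S : ℤ) by omega, show q + 1 + r = p by omega])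
    exact ⟨(hequiv k (hpull _ _) q).symm.trans (ε.symm.trans ((hequiv k e₃ q).symm.trans (δ.trans
      ((hequiv k (e₁ ≪≫ g ≪≫ hg) (q + 1)).trans c))))⟩

open CIProj14 in
/-- Complete intersections. -/
theorem ciForms_ciIdeal (hm : 1 ≤ m) : ∀ (r : ℕ) (a : Fin r → ℕ) (G : ∀ l : Fin r, LefPen.Form m k (a l)),
    (∀ l, 1 ≤ a l) → r ≤ m →
    topologicalKrullDim ↥(LefPen.ciIdeal G).subscheme ≤ ((m - r : ℕ) : WithBot ℕ∞) →
    CIForms (LefPen.ciIdeal G).subschemeι (m - r) r (∑ l, a l) := by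
  intro r
  induction r with
  | zero =>
    intro a G _ _ _
    have hbot : LefPen.ciIdeal G = ⊥ := iSup_of_empty _
    haveI : IsIso (LefPen.ciIdeal G).subschemeι := by rw [hbot]; infer_instance
    have := (ciForms_id (k := k) hm).of_iso (LefPen.ciIdeal G).subschemeι
    rw [Category.comp_id] at this
    simpa using this
  | succ r ih =>
    intro a G ha hr hdim
    let J := LefPen.ciIdeal (fun l : Fin r => G l.castSucc)
    have h0 : CIForms J.subschemeι (m - (r + 1) + 1) r (∑ l : Fin r, a l.castSucc) := by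
      rw [show m - (r + 1) + 1 = m - r by omega]
      exact ih _ _ (fun l => ha l.castSucc) (by omega) (dim_castSucc_le G ha hr hdim)
    have h1 := h0.step J.subschemeι (ha (Fin.last r)) (G (Fin.last r)) (last_mem_nonZeroDivisors G hr hdim)
    obtain ⟨e, he, hfac⟩ := isIso_lift (LefPen.ciIdeal G).subschemeι
      (((LefPen.hypIdeal (G (Fin.last r))).comap J.subschemeι).subschemeι ≫ J.subschemeι)
      (by rw [ker_comp_eq, Scheme.IdealSheafData.ker_subschemeι, ciIdeal_succ])
    haveI := he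
    have h2 := h1.of_iso e
    rw [hfac] at h2
    rwa [Fin.sum_univ_castSucc]

end Groth.Agent.HdgLef1
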