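import Mathlib.RingTheory.PowerSeries.Basic
import Mathlib.RingTheory.Binomial
import Mathlib.RingTheory.PowerSeries.NoZeroDivisors
import Mathlib.RingTheory.PowerSeries.WellKnown
import Mathlib.Algebra.Polynomial.Coeff
import Mathlib.Tactic.LinearCombination

/-!
# Generating series of the genera of hypersurfaces: the algebra
-/

set_option autoImplicit false

open Polynomial

noncomputable section

namespace Groth.Agent.HdgLef1.ChiY

/-- The terms of the Euler sequence. -/
def dCoef (N : ℕ) (t : ℤ) (l : ℕ) : ℤ := (N + 1).choose l * Ring.choose (t - l + N) N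

/-- Their polynomial. -/
def D (N : ℕ) (t : ℤ) : ℤ[X] := ∑ l ∈ Finset.range (N + 2), C (dCoef N t l) * X ^ l

theorem coeff_D (N : ℕ) (t : ℤ) (l : ℕ) : (D N t).coeff l = dCoef N t l := by
  simp only [D, finsetSum_coeff, coeff_C_mul_X_pow]
  rw [Finset.sum_ite_eq]
  split_ifs with h
  · rfl
  · simp only [Finset.mem_range, not_lt] at h
    simp [dCoef, Nat.choose_eq_zero_of_lt (show N + 1 < l by omega)]

theorem D_succ (N : ℕ) (t : ℤ) :
    D (N + 1) t - D (N + 1) (t - 1) = D N t + X * D N (t - 1) := by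
  ext l
  simp only [coeff_sub, coeff_add, coeff_D, dCoef]
  have key : ∀ (c : ℕ), Ring.choose (t - c + ((N + 1 : ℕ) : ℤ)) (N + 1) -
      Ring.choose (t - 1 - c + ((N + 1 : ℕ) : ℤ)) (N + 1) = Ring.choose (t - c + (N : ℤ)) N := fun c => by
    have h := Ring.choose_succ_succ (t - c + (N : ℤ)) N
    rw [show t - c + ((N + 1 : ℕ) : ℤ) = t - c + N + 1 by push_cast; ring, h,
      show t - 1 - c + ((N + 1 : ℕ) : ℤ) = t - c + N by push_cast; ring]
    ring
  cases l with
  | zero =>
    simp only [mul_coeff_zero, coeff_X_zero, zero_mul, add_zero, ← mul_sub, key]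
    simp
  | succ l =>
    rw [coeff_X_mul, coeff_D, dCoef, ← mul_sub, key, Nat.choose_succ_succ]
    rw [show t - ((l + 1 : ℕ) : ℤ) + N = t - 1 - l + N by push_cast; ring]
    push_cast
    ring

theorem D_zero (N : ℕ) : D N 0 = 1 + (-1) ^ N * X ^ (N + 1) := by
  ext l
  rw [coeff_D, dCoef, coeff_add, show ((-1 : ℤ[X]) ^ N) = C ((-1 : ℤ) ^ N) by simp, coeff_C_mul_X_pow, coeff_one]
  rcases Nat.eq_zero_or_pos l with rfl | hl
  · rw [Nat.choose_zero_right, show (0 : ℤ) - ((0 : ℕ) : ℤ) + N = ((N : ℕ) : ℤ) by simp, Ring.choose_natCast]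
    simp
  rw [if_neg (by omega), zero_add]
  rcases lt_trichotomy l (N + 1) with h | rfl | h
  · rw [show (0 : ℤ) - l + N = ((N - l : ℕ) : ℤ) by omega, Ring.choose_natCast, if_neg (by omega),
      Nat.choose_eq_zero_of_lt (show N - l < N by omega)]
    simp
  · rw [show (0 : ℤ) - ((N + 1 : ℕ) : ℤ) + N = -(1 : ℤ) by omega, Ring.choose_neg, if_pos rfl,
      Nat.choose_self, show (1 : ℤ) + N - 1 = (N : ℤ) by omega, Ring.choose_natCast, Nat.choose_self]
    simp [Int.negOnePow_def, Units.smul_def]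
  · rw [Nat.choose_eq_zero_of_lt h, if_neg (by omega)]
    simp

/-- `y` as a series. -/
abbrev Y : PowerSeries ℤ[X] := PowerSeries.C X

theorem one_add_X_ne_zero : (1 + X : ℤ[X]) ≠ 0 := fun h => by
  simpa [coeff_one] using congrArg (Polynomial.coeff · 0) h

variable {a : ℕ} {E S : ℕ → ℤ → ℤ[X]} (hE : ∀ N t, (1 + X) * E N t = D N t)

include hE in
theorem E_succ (N : ℕ) (t : ℤ) : E (N + 1) (t - 1) + X * E N (t - 1) = E (N + 1) t - E N t := by
  refine mul_left_cancel₀ one_add_X_ne_zero ?_
  linear_combination -D_succ N t + hE (N + 1) (t - 1) + X * hE N (t - 1) - hE (N + 1) t + hE N t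

include hE in
theorem E_zero (t : ℤ) : E 0 t = 1 := by
  refine mul_left_cancel₀ one_add_X_ne_zero ?_
  rw [hE, mul_one]
  simp [D, dCoef, Finset.sum_range_succ]

open PowerSeries in
/-- The series of projective spaces. -/
def G (E : ℕ → ℤ → ℤ[X]) (u : ℤ) : PowerSeries ℤ[X] := PowerSeries.mk fun N => E N (-u)

/-- The series of hypersurfaces. -/
def H (S : ℕ → ℤ → ℤ[X]) (u : ℤ) : PowerSeries ℤ[X] := PowerSeries.X * PowerSeries.mk fun n => S n (-u)

include hE in
theorem G_step (u : ℤ) :
    (1 + Y * PowerSeries.X) * G E (u + 1) = (1 - PowerSeries.X) * G E u := by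
  refine PowerSeries.ext fun N => ?_
  rw [add_mul, sub_mul, one_mul, one_mul, mul_assoc]
  cases N with
  | zero => simp [G, E_zero hE]
  | succ N =>
    simp only [map_add, map_sub, PowerSeries.coeff_C_mul, PowerSeries.coeff_succ_X_mul, G,
      PowerSeries.coeff_mk]
    rw [show -(u + 1) = -u - 1 by ring]
    exact E_succ hE N (-u)

include hE in
theorem G_shift (u : ℤ) : ∀ j : ℕ,
    (1 + Y * PowerSeries.X) ^ j * G E (u + j) = (1 - PowerSeries.X) ^ j * G E u := by
  intro j
  induction j with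
  | zero => simp
  | succ j ih =>
    rw [pow_succ, mul_assoc, show u + ((j + 1 : ℕ) : ℤ) = u + j + 1 by push_cast; ring, G_step hE, ← mul_assoc,
      mul_comm ((1 + Y * PowerSeries.X) ^ j), mul_assoc, ih]
    ring

include hE in
theorem G_zero : (1 - PowerSeries.X) * (1 + Y * PowerSeries.X) * G E 0 = 1 := by
  have hne : (1 + Y : PowerSeries ℤ[X]) ≠ 0 := fun h => by
    have h' := congrArg PowerSeries.constantCoeff h
    simp at h'
    exact one_add_X_ne_zero h'
  refine mul_left_cancel₀ hne ?_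
  let B : PowerSeries ℤ[X] := PowerSeries.mk fun N => (-X) ^ N
  have hP : (1 + Y) * G E 0 = PowerSeries.mk 1 + Y * B := by
    refine PowerSeries.ext fun N => ?_
    rw [add_mul, one_mul]
    simp only [map_add, PowerSeries.coeff_C_mul, G, PowerSeries.coeff_mk, B, Pi.one_apply, neg_zero]
    rw [neg_pow (X : ℤ[X]) N, mul_left_comm, ← pow_succ']
    linear_combination hE N 0 + D_zero N
  have hB : (1 + Y * PowerSeries.X) * B = 1 := by
    refine PowerSeries.ext fun N => ?_
    rw [add_mul, one_mul, mul_assoc]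
    cases N with
    | zero => simp [B]
    | succ N =>
      simp only [map_add, PowerSeries.coeff_C_mul, PowerSeries.coeff_succ_X_mul, B, PowerSeries.coeff_mk,
        PowerSeries.coeff_one, Nat.add_one_ne_zero, if_false]
      ring
  have hA := PowerSeries.mk_one_mul_one_sub_eq_one ℤ[X]
  linear_combination (1 - PowerSeries.X) * (1 + Y * PowerSeries.X) * hP +
    (1 + Y * PowerSeries.X) * hA + Y * (1 - PowerSeries.X) * hB

theorem eq_zero_of_dvd (p : PowerSeries ℤ[X]) (h : ∀ j : ℕ, Y ^ j ∣ p) : p = 0 := by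
  refine PowerSeries.ext fun N => Polynomial.ext fun d => ?_
  obtain ⟨q, hq⟩ := h (d + 1)
  rw [hq, ← map_pow, PowerSeries.coeff_C_mul, Polynomial.coeff_X_pow_mul', if_neg (by omega)]
  simp

include hE in
/-- The generating series of hypersurfaces of degree `a`. -/
theorem generating (hS : ∀ n t, S n t + X * S n (t - a) = E (n + 1) t - E (n + 1) (t - a)) :
    (1 - PowerSeries.X) * (1 + Y * PowerSeries.X) *
        ((1 + Y * PowerSeries.X) ^ a + Y * (1 - PowerSeries.X) ^ a) * H S 0 =
      (1 + Y * PowerSeries.X) ^ a - (1 - PowerSeries.X) ^ a := by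
  have hH : ∀ u : ℤ, H S u + Y * H S (u + a) = G E u - G E (u + a) := fun u => by
    refine PowerSeries.ext fun N => ?_
    cases N with
    | zero => simp [H, G, E_zero hE]
    | succ N =>
      simp only [map_add, map_sub, PowerSeries.coeff_C_mul, H, PowerSeries.coeff_succ_X_mul, G,
        PowerSeries.coeff_mk]
      rw [show -(u + (a : ℤ)) = -u - a by ring]
      exact hS N (-u)
  let M : PowerSeries ℤ[X] := (1 + Y * PowerSeries.X) ^ a
  let m : PowerSeries ℤ[X] := (1 - PowerSeries.X) ^ a
  let K : ℤ → PowerSeries ℤ[X] := fun u => (M + Y * m) * H S u - (M - m) * G E u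
  have hK : ∀ u, K u = -Y * K (u + a) := fun u => by
    have hg : M * G E (u + a) = m * G E u := G_shift hE u a
    simp only [K]
    linear_combination (M + Y * m) * hH u - (1 + Y) * hg
  have hz : K 0 = 0 := by
    refine eq_zero_of_dvd _ fun j => ?_
    suffices ∀ u, Y ^ j ∣ K u from this 0
    induction j with
    | zero => simp
    | succ j ih =>
      intro u
      rw [hK u, pow_succ', neg_mul, dvd_neg]
      exact mul_dvd_mul_left _ (ih _)
  simp only [K] at hz
  linear_combination (1 - PowerSeries.X) * (1 + Y * PowerSeries.X) * hz + (M - m) * G_zero hE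

end Groth.Agent.HdgLef1.ChiY
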