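import Groth.Agent.Lib.HdgLef1.Seq

/-!
# Hodge cohomology of a divisor from vanishing on the ambient scheme
-/

set_option autoImplicit false
set_option linter.style.haveILetI false
set_option linter.unusedSectionVars false
set_option backward.isDefEq.respectTransparency false
set_option backward.isDefEq.respectTransparency.types false
set_option maxHeartbeats 1000000

universe u

open CategoryTheory CategoryTheory.Limits AlgebraicGeometry TopologicalSpace Opposite

noncomputable section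

namespace Groth.Agent.HdgLef1

open Groth.Agent CurveCoh17

theorem van_of_isZero {X : Scheme.{u}} (k : Type u) [CommRing k] [X.Over (Spec (CommRingCat.of k))] {M : X.Modules}
    (h : IsZero M) (q : ℕ) : Subsingleton (Coh.HH X M q) :=
  subsingleton_of_forall_eq 0 fun x => by
    rw [← CurveCoh17.hmap_id k M q x, h.eq_of_src (𝟙 M) 0, CurveCoh17.hmap_zero]

variable {X : Scheme.{u}} {I : X.IdealSheafData} {ΩX : X.Modules} {ΩY : I.subscheme.Modules}
  (hc : Conormal I ΩX ΩY)
include hc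

theorem Conormal.locFree_tensor (p : ℕ) {G : X.Modules} (hG : PicF.IsInvertible G) :
    FlatMod.IsFinLocFree (CohB1.tensorMod (Wedge2.extMod p ΩX) G) :=
  M2.isFinLocFree_tensor (isFinLocFree_E hc.locFree p) (M2.isFinLocFree_of_isInvertible hG)

/-- Above the dimension the forms of the divisor vanish. -/
theorem Conormal.isZero_of_isZero (p : ℕ) (h : IsZero (Wedge2.extMod (p + 1) ΩX)) :
    IsZero (Wedge2.extMod p ΩY) := by
  obtain ⟨P, hP, ⟨e⟩⟩ := M2.exists_inverse hc.inv
  obtain ⟨S, hS, ⟨a⟩, ⟨b⟩, -⟩ := hc.exists_ses p hP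
  haveI := hS.mono_f
  have h₂ : IsZero S.X₂ :=
    (Functor.map_isZero (Scheme.Modules.pullback I.subschemeι) (Functor.map_isZero (M2.tensorR P) h)).of_iso b
  have h₁ : IsZero S.X₁ := IsZero.of_mono S.f h₂
  exact h₁.of_iso (a ≪≫ M2.tensorIso (Iso.refl _) ((Scheme.Modules.pullback I.subschemeι).mapIso e ≪≫
    PicLoc.pullbackStructureIso _) ≪≫ M2.tensorRUnit _).symm

variable (k : Type u) [CommRing k] [X.Over (Spec (CommRingCat.of k))]
  [Scheme.Over I.subscheme (Spec (CommRingCat.of k))]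
  (hover : I.subschemeι ≫ (X ↘ Spec (CommRingCat.of k)) = I.subscheme ↘ Spec (CommRingCat.of k))
include k hover

/-- Negative twists of the forms of the divisor. -/
theorem Conormal.van_neg (N : ℕ) (hvan : ∀ j p q : ℕ, 1 ≤ j → p + q < N →
      Subsingleton (Coh.HH X (CohB1.tensorMod (Wedge2.extMod p ΩX) (CohB1.tensorPow (ClSub.idealMod I) j)) q)) :
    ∀ p q j : ℕ, 1 ≤ j → p + q + 1 < N → Subsingleton (Coh.HH I.subscheme
      (CohB1.tensorMod (Wedge2.extMod p ΩY) (res I (CohB1.tensorPow (ClSub.idealMod I) j))) q) := by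
  have hM : ∀ j, PicF.IsInvertible (CohB1.tensorPow (ClSub.idealMod I) j) := fun j => M2.isInvertible_tensorPow hc.inv j
  have hmid : ∀ p q j : ℕ, 1 ≤ j → p + q + 1 < N → Subsingleton (Coh.HH I.subscheme
      (res I (CohB1.tensorMod (Wedge2.extMod p ΩX) (CohB1.tensorPow (ClSub.idealMod I) j))) q) := fun p q j hj hpq =>
    van_restr I k hover (hc.locFree_tensor p (hM j)) (hvan j p q hj (by omega))
      (van_congr k (M2.tensorAssoc _ _ _).symm (hvan (j + 1) p (q + 1) (by omega) (by omega)))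
  intro p
  induction p with
  | zero =>
    intro q j hj hpq
    obtain ⟨z⟩ := hc.nonempty_zero_iso
    exact van_congr k (M2.pullTensorIso _ _ _ ≪≫ M2.tensorIso z (Iso.refl _)) (hmid 0 q j hj hpq)
  | succ p ih =>
    intro q j hj hpq
    obtain ⟨S, hS, ⟨a⟩, ⟨b⟩, ⟨c⟩⟩ := hc.exists_ses p (hM j)
    refine van_congr k c (sub_right k hS (van_congr k b.symm (hmid (p + 1) q j hj hpq)) (van_congr k ?_
      (ih (q + 1) (j + 1) (by omega) (by omega))))
    exact M2.tensorIso (Iso.refl _) ((Scheme.Modules.pullback I.subschemeι).mapIso (M2.tensorComm _ _)) ≪≫ a.symm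

/-- Below the middle degree the divisor has the cohomology of the ambient scheme. -/
theorem Conormal.exists_map (N : ℕ) (hvan : ∀ j p q : ℕ, 1 ≤ j → p + q < N →
      Subsingleton (Coh.HH X (CohB1.tensorMod (Wedge2.extMod p ΩX) (CohB1.tensorPow (ClSub.idealMod I) j)) q))
    (p q : ℕ) (hpq : p + q + 1 ≤ N) :
    ∃ r : Coh.HH X (Wedge2.extMod p ΩX) q →ₗ[k] Coh.HH I.subscheme (Wedge2.extMod p ΩY) q,
      Function.Injective r ∧ (p + q + 1 < N → Function.Surjective r) := by
  have hM1 : CohB1.tensorPow (ClSub.idealMod I) 1 ≅ ClSub.idealMod I := M2.tensorPowOne _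
  have h₁ : ∀ q', p + q' < N →
      Subsingleton (Coh.HH X (CohB1.tensorMod (Wedge2.extMod p ΩX) (ClSub.idealMod I)) q') := fun q' h =>
    van_congr k (M2.tensorIso (Iso.refl _) hM1) (hvan 1 p q' le_rfl h)
  obtain ⟨r₁, hr₁, hr₁'⟩ := exists_restr_map I k hover (isFinLocFree_E hc.locFree p) (h₁ q (by omega))
  cases p with
  | zero =>
    obtain ⟨z⟩ := hc.nonempty_zero_iso
    exact ⟨(hequiv k z q).toLinearMap.comp r₁, (hequiv k z q).injective.comp hr₁,
      fun h => (hequiv k z q).surjective.comp (hr₁' (h₁ (q + 1) (by omega)))⟩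
  | succ p =>
    obtain ⟨S, hS, ⟨a⟩, ⟨b⟩, ⟨c⟩⟩ := hc.exists_ses p (PicLoc.isInvertible_structureModule X)
    let b' : res I (Wedge2.extMod (p + 1) ΩX) ≅ S.X₂ :=
      (Scheme.Modules.pullback I.subschemeι).mapIso (M2.tensorRUnit _).symm ≪≫ b.symm
    let c' : S.X₃ ≅ Wedge2.extMod (p + 1) ΩY :=
      c ≪≫ M2.tensorIso (Iso.refl _) (PicLoc.pullbackStructureIso _) ≪≫ M2.tensorRUnit _
    have h₂ : ∀ q', p + q' + 1 < N → Subsingleton (Coh.HH I.subscheme S.X₁ q') := fun q' h =>
      van_congr k (M2.tensorIso (Iso.refl _) ((Scheme.Modules.pullback I.subschemeι).mapIso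
        (hM1 ≪≫ (M2.tensorRUnit _).symm)) ≪≫ a.symm) (hc.van_neg k hover N hvan p q' 1 le_rfl h)
    refine ⟨(hequiv k c' q).toLinearMap.comp ((hmap k S.g q).comp ((hequiv k b' q).toLinearMap.comp r₁)), ?_,
      fun h => ?_⟩
    · exact (hequiv k c' q).injective.comp ((injective_g k hS (h₂ q (by omega))).comp
        ((hequiv k b' q).injective.comp hr₁))
    · exact (hequiv k c' q).surjective.comp ((surjective_g k hS (h₂ (q + 1) (by omega))).comp
        ((hequiv k b' q).surjective.comp (hr₁' (h₁ (q + 1) (by omega)))))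

/-- Positive twists of the forms of the divisor. -/
theorem Conormal.van_pos (n : ℕ) (hz : ∀ b, n < b → IsZero (Wedge2.extMod b ΩX)) {P : X.Modules}
    (hP : PicF.IsInvertible P) (e : CohB1.tensorMod (ClSub.idealMod I) P ≅ Coh.structureModule X)
    (hvan : ∀ j c a : ℕ, 1 ≤ j → 1 ≤ a →
      Subsingleton (Coh.HH X (CohB1.tensorMod (Wedge2.extMod c ΩX) (CohB1.tensorPow P j)) a)) :
    ∀ a b j : ℕ, 1 ≤ j → n ≤ a + b → Subsingleton (Coh.HH I.subscheme
      (CohB1.tensorMod (Wedge2.extMod b ΩY) (res I (CohB1.tensorPow P j))) a) := by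
  have hzero : ∀ a b j : ℕ, n ≤ b → Subsingleton (Coh.HH I.subscheme
      (CohB1.tensorMod (Wedge2.extMod b ΩY) (res I (CohB1.tensorPow P j))) a) := fun a b j hb =>
    van_of_isZero k (Functor.map_isZero (M2.tensorR _) (hc.isZero_of_isZero b (hz (b + 1) (by omega)))) a
  have hPow : ∀ j, PicF.IsInvertible (CohB1.tensorPow P j) := fun j => M2.isInvertible_tensorPow hP j
  let w : ∀ j : ℕ, CohB1.tensorMod (ClSub.idealMod I) (CohB1.tensorPow P (j + 1)) ≅ CohB1.tensorPow P j := fun j =>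
    M2.tensorComm _ _ ≪≫ M2.tensorAssoc _ _ _ ≪≫ M2.tensorIso (Iso.refl _) (M2.tensorComm P _ ≪≫ e) ≪≫
      M2.tensorRUnit _
  intro a
  induction a with
  | zero => exact fun b j _ hb => hzero 0 b j (by omega)
  | succ a ih =>
    intro b j hj hab
    obtain ⟨S, hS, ⟨s₁⟩, ⟨s₂⟩, ⟨s₃⟩⟩ := hc.exists_ses b (hPow (j + 1))
    refine van_congr k (s₁ ≪≫ M2.tensorIso (Iso.refl _) ((Scheme.Modules.pullback I.subschemeι).mapIso (w j)))
      (sub_left k hS (van_congr k s₂.symm ?_) (van_congr k s₃.symm (ih (b + 1) (j + 1) (by omega) (by omega))))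
    exact van_restr I k hover (hc.locFree_tensor (b + 1) (hPow (j + 1))) (hvan (j + 1) (b + 1) (a + 1) (by omega) (by omega))
      (van_congr k ((M2.tensorAssoc _ _ _ ≪≫ M2.tensorIso (Iso.refl _) (M2.tensorComm _ _ ≪≫ w j)).symm)
        (hvan j (b + 1) (a + 1 + 1) hj (by omega)))

end Groth.Agent.HdgLef1
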