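import Groth.Agent.Lib.HdgLef1.Geo
import Groth.Agent.Lib.HdgLef1.Main
import Groth.Agent.Lib.HdgLef1.ChiY
import Groth.Agent.Lib.CIProj14.Hyp
import Groth.Agent.Lib.Euler2.BottDim
import Groth.Agent.Lib.CMReg18.EulerBinom
import Groth.Agent.Lib.FundIso12.PureDim
import Groth.Agent.Lib.Snapper.Vanish
import Groth.Agent.S10829

/-!
# Euler characteristics of twisted forms on smooth hypersurfaces
-/

set_option autoImplicit false
set_option linter.style.haveILetI false
set_option linter.unusedSectionVars false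
set_option backward.isDefEq.respectTransparency false
set_option backward.isDefEq.respectTransparency.types false
set_option maxHeartbeats 1000000

universe u

open CategoryTheory CategoryTheory.Limits AlgebraicGeometry TopologicalSpace Opposite

noncomputable section

namespace Groth.Agent.HdgLef1.ChiY

open Groth.Agent Groth.Agent.HdgLef1

variable {k : Type u} [Field k] {m : ℕ}

local notation "PS" => CohB1.ProjSpace m k
local notation "O(" i ")" => _root_.Twist.twistProjSpace m k i

/-- Euler characteristic of a twisted module of forms of projective space. -/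
def eP (k : Type u) [Field k] (m p : ℕ) (t : ℤ) : ℤ :=
  Curv2.euler k (CohB1.ProjSpace m k) (CohB1.tensorMod (Euler2.Om m k p) (_root_.Twist.twistProjSpace m k t))

theorem euler_zero_of_isZero {X : Scheme.{u}} [X.Over (Spec (CommRingCat.of k))] {M : X.Modules} (h : IsZero M) :
    Curv2.euler k X M = 0 :=
  finsum_eq_zero_of_forall_eq_zero fun i => by
    haveI := van_of_isZero k h i
    simp [Module.finrank_zero_of_subsingleton]

theorem euler_congr {X : Scheme.{u}} [X.Over (Spec (CommRingCat.of k))] {M N : X.Modules} (e : M ≅ N) :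
    Curv2.euler k X M = Curv2.euler k X N :=
  CurveCoh17.euler_iso e

/-- Additivity on a proper scheme. -/
theorem euler_ses {X : Scheme.{u}} [X.Over (Spec (CommRingCat.of k))] [IsProper (X ↘ Spec (CommRingCat.of k))]
    {S : ShortComplex X.Modules} (hS : S.ShortExact) {A B C : X.Modules} (a : S.X₁ ≅ A) (b : S.X₂ ≅ B) (c : S.X₃ ≅ C)
    (hA : Coh.IsCoh A) (hB : Coh.IsCoh B) (hC : Coh.IsCoh C) :
    Curv2.euler k X B = Curv2.euler k X A + Curv2.euler k X C := by
  obtain ⟨N, hN⟩ := EulerAdd18.exists_bdd k X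
  rw [← euler_congr a, ← euler_congr b, ← euler_congr c]
  exact EulerAdd18.euler_add hS (hN _ (CohFound.isCoh_of_iso a.symm hA)) (hN _ (CohFound.isCoh_of_iso b.symm hB))
    (hN _ (CohFound.isCoh_of_iso c.symm hC))

theorem isCoh_tw (p : ℕ) (t : ℤ) : Coh.IsCoh (CohB1.tensorMod (Euler2.Om m k p) O(t)) := by
  haveI : IsProper (CohB1.ProjSpace.toSpec m k) := ProjSpace.isProper_toSpec m k
  haveI : AlgebraicGeometry.IsNoetherian PS := CohFound.isNoetherian_of_isProper (CohB1.ProjSpace.toSpec m k)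
  exact CohFound.isCoh_of_isFinLocFree (M2.isFinLocFree_tensor
    (isFinLocFree_E (M2.isFinLocFree_of_ofRank (Euler2.rank_omega m k)) p)
    (M2.isFinLocFree_of_isInvertible (Twist.isInvertible_twistProjSpace m k t)))

theorem eP_zero (t : ℤ) : eP k m 0 t = Ring.choose (t + m) m := by
  obtain ⟨z⟩ := Euler2.nonempty_Om_zero m k t
  exact (euler_congr z).trans (CMReg18.euler_twist t)

theorem eP_gt {p : ℕ} (hp : m < p) (t : ℤ) : eP k m p t = 0 :=
  euler_zero_of_isZero (Functor.map_isZero (M2.tensorR O(t)) (Euler2.isZero_Om m k hp))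

theorem eP_succ (p : ℕ) (t : ℤ) :
    eP k m (p + 1) t + eP k m p t = (m + 1).choose (p + 1) * Ring.choose (t - ((p + 1 : ℕ) : ℤ) + m) m := by
  haveI : IsProper (CohB1.ProjSpace.toSpec m k) := ProjSpace.isProper_toSpec m k
  haveI : IsProper (PS ↘ Spec (CommRingCat.of k)) := CMReg18.isProper_projSpace k
  haveI : AlgebraicGeometry.IsNoetherian PS := CohFound.isNoetherian_of_isProper (CohB1.ProjSpace.toSpec m k)
  obtain ⟨S, hS, ⟨a⟩, ⟨c⟩, ⟨b⟩⟩ := Euler2.exists_ses_free m k p t
  let N := Nat.choose (m + 1) (p + 1)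
  let e := t - ((p + 1 : ℕ) : ℤ)
  have hB : Coh.IsCoh (CohB1.tensorMod (FlatMod.freeMod PS N) O(e)) :=
    CohFound.isCoh_of_isFinLocFree (M2.isFinLocFree_tensor (Euler2.isFinLocFree_freeMod _ _)
      (M2.isFinLocFree_of_isInvertible (Twist.isInvertible_twistProjSpace m k _)))
  have h := euler_ses (k := k) hS a b c (isCoh_tw (p + 1) t) hB (isCoh_tw p t)
  refine Eq.trans h.symm ?_
  have hf : ∀ q, Module.finrank k (Coh.HH PS (CohB1.tensorMod (FlatMod.freeMod PS N) O(e)) q) =
      N * Module.finrank k (Coh.HH PS O(e) q) := fun q => by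
    obtain ⟨ψ⟩ := Euler2.nonempty_HH_freeMod_tensor m k N O(e) q
    haveI := (CMReg18.bdd_proj (k := k) (n := m)
      (Snapper.isCoh_of_isInvertible (Twist.isInvertible_twistProjSpace m k e))).fin q
    rw [ψ.finrank_eq, Module.finrank_pi_fintype, Finset.sum_const, Finset.card_univ, Fintype.card_fin, smul_eq_mul]
  rw [(CMReg18.bdd_proj hB).euler_eq, show Ring.choose (e + m) m = Curv2.euler k PS O(e) from
    (CMReg18.euler_twist e).symm, (CMReg18.bdd_proj (k := k) (n := m)
      (Snapper.isCoh_of_isInvertible (Twist.isInvertible_twistProjSpace m k e))).euler_eq, Finset.mul_sum]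
  exact Finset.sum_congr rfl fun q _ => by rw [hf]; push_cast; ring

/-- A smooth hypersurface of dimension less than the ambient space is cut out by a nonzero form. -/
theorem ne_zero_of_smooth {n a : ℕ} (G : LefPen.Form (n + 1) k a)
    [SmoothOfRelativeDimension n ((LefPen.hypIdeal G).subschemeι ≫ CohB1.ProjSpace.toSpec (n + 1) k)] : G.1 ≠ 0 := by
  intro h
  haveI : IsProper (CohB1.ProjSpace.toSpec (n + 1) k) := ProjSpace.isProper_toSpec _ k
  haveI : AlgebraicGeometry.IsNoetherian (LefPen.hypIdeal G).subscheme :=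
    CohFound.isNoetherian_of_isProper ((LefPen.hypIdeal G).subschemeι ≫ CohB1.ProjSpace.toSpec (n + 1) k)
  have hd : ∀ j, LefPen.dehom G j = 0 := fun j => by
    rw [LefPen.dehom]
    refine (congrArg _ ?_).trans (map_zero _)
    apply HomogeneousLocalization.val_injective
    simp [HomogeneousLocalization.Away.val_mk, h, Localization.mk_zero]
  have hbot : LefPen.hypIdeal G = ⊥ := by
    refine Scheme.IdealSheafData.ext_of_iSup_eq_top
      (fun j => (⟨LefPen.chart (n + 1) k j, ProjDim18.isAffineOpen_chart j⟩ : (CohB1.ProjSpace (n + 1) k).affineOpens))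
      (ProjSpace.iSup_basicOpen (n + 1) k) fun j => ?_
    rw [LefPen13.hypIdeal_chart, hd, Scheme.IdealSheafData.ideal_bot]
    exact Ideal.span_singleton_eq_bot.2 rfl
  haveI : IsIso (LefPen.hypIdeal G).subschemeι := by rw [hbot]; infer_instance
  have hP : IrreducibleSpace (CohB1.ProjSpace (n + 1) k) := by
    haveI := RegExt.isIntegral_projSpace (n + 1) k
    infer_instance
  let e := Scheme.homeoOfIso (asIso (LefPen.hypIdeal G).subschemeι)
  haveI : IrreducibleSpace ↥(LefPen.hypIdeal G).subscheme :=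
    e.symm.surjective.irreducibleSpace e.symm.continuous
  have h₂ := FundIso12.dim_component_of_smooth ((LefPen.hypIdeal G).subschemeι ≫ CohB1.ProjSpace.toSpec (n + 1) k) n
    (Z := Set.univ) (by rw [irreducibleComponents_eq_singleton]; rfl)
  have h₃ : topologicalKrullDim ↥(LefPen.hypIdeal G).subscheme = ((n + 1 : ℕ) : WithBot ℕ∞) :=
    (IsHomeomorph.topologicalKrullDim_eq e e.isHomeomorph).trans (S10829.result k (n + 1))
  rw [IsHomeomorph.topologicalKrullDim_eq _ (Homeomorph.Set.univ _).isHomeomorph, h₃] at h₂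
  norm_cast at h₂
  omega

variable {n a : ℕ} (G : LefPen.Form (n + 1) k a)
  [SmoothOfRelativeDimension n ((LefPen.hypIdeal G).subschemeι ≫ CohB1.ProjSpace.toSpec (n + 1) k)]

local notation "XG" => Scheme.IdealSheafData.subscheme (LefPen.hypIdeal G)

/-- The structure over `k`. -/
abbrev overH : Scheme.Over (LefPen.hypIdeal G).subscheme (Spec (CommRingCat.of k)) :=
  ⟨(LefPen.hypIdeal G).subschemeι ≫ CohB1.ProjSpace.toSpec (n + 1) k⟩

/-- Euler characteristic of a twisted module of forms of the hypersurface. -/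
def eX (p : ℕ) (t : ℤ) : ℤ :=
  letI := overH G
  Curv2.euler k XG (CohB1.tensorMod
    (Wedge2.extMod p (Omega.sheaf ((LefPen.hypIdeal G).subschemeι ≫ CohB1.ProjSpace.toSpec (n + 1) k)))
    (res (LefPen.hypIdeal G) (_root_.Twist.twistProjSpace (n + 1) k t)))

theorem conormal_hyp : Conormal (LefPen.hypIdeal G) (Omega.sheaf (CohB1.ProjSpace.toSpec (n + 1) k))
    (Omega.sheaf ((LefPen.hypIdeal G).subschemeι ≫ CohB1.ProjSpace.toSpec (n + 1) k)) := by
  haveI : IsProper (CohB1.ProjSpace.toSpec (n + 1) k) := ProjSpace.isProper_toSpec _ k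
  haveI := ProjSpace.smoothOfRelativeDimension_toSpec (n + 1) k
  haveI : Smooth (CohB1.ProjSpace.toSpec (n + 1) k) := SmoothOfRelativeDimension.smooth (n + 1) _
  haveI : Smooth ((LefPen.hypIdeal G).subschemeι ≫ CohB1.ProjSpace.toSpec (n + 1) k) :=
    SmoothOfRelativeDimension.smooth n _
  obtain ⟨τ⟩ := CIProj14.nonempty_idealMod_hypIdeal G (ne_zero_of_smooth G)
  exact conormal_of_smooth _ _ (M2.isInvertible_of_iso τ.symm (Twist.isInvertible_twistProjSpace (n + 1) k _))

theorem euler_res (p : ℕ) (t : ℤ) :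
    letI := overH G
    Curv2.euler k XG (res (LefPen.hypIdeal G)
        (CohB1.tensorMod (Euler2.Om (n + 1) k p) (_root_.Twist.twistProjSpace (n + 1) k t))) =
      eP k (n + 1) p t - eP k (n + 1) p (t - a) := by
  letI := overH G
  let I := LefPen.hypIdeal G
  haveI : IsProper (CohB1.ProjSpace.toSpec (n + 1) k) := ProjSpace.isProper_toSpec _ k
  haveI : IsProper (CohB1.ProjSpace (n + 1) k ↘ Spec (CommRingCat.of k)) := CMReg18.isProper_projSpace k
  haveI : AlgebraicGeometry.IsNoetherian (CohB1.ProjSpace (n + 1) k) :=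
    CohFound.isNoetherian_of_isProper (CohB1.ProjSpace.toSpec (n + 1) k)
  let F := CohB1.tensorMod (Euler2.Om (n + 1) k p) (_root_.Twist.twistProjSpace (n + 1) k t)
  have hF : FlatMod.IsFinLocFree F := M2.isFinLocFree_tensor
    (isFinLocFree_E (M2.isFinLocFree_of_ofRank (Euler2.rank_omega (n + 1) k)) p)
    (M2.isFinLocFree_of_isInvertible (Twist.isInvertible_twistProjSpace _ k t))
  obtain ⟨S, hS, ⟨e₁⟩, ⟨e₂⟩, ⟨e₃⟩⟩ := exists_restr_ses I F hF
  obtain ⟨τ⟩ := CIProj14.nonempty_idealMod_hypIdeal G (ne_zero_of_smooth G)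
  obtain ⟨μ⟩ := Twist.nonempty_tensor_iso (CohB1.polyGrading (n + 1) k) (m := t) (n := -(a : ℤ))
    (Twist.iSup_basicOpen_one (n + 1) k)
  let e₁' : S.X₁ ≅ CohB1.tensorMod (Euler2.Om (n + 1) k p) (_root_.Twist.twistProjSpace (n + 1) k (t - a)) :=
    e₁ ≪≫ M2.tensorIso (Iso.refl _) τ ≪≫ M2.tensorAssoc _ _ _ ≪≫ M2.tensorIso (Iso.refl _) (μ ≪≫
      eqToIso (congrArg (_root_.Twist.twist (CohB1.polyGrading (n + 1) k)) (sub_eq_add_neg t (a : ℤ)).symm))
  have hres : Coh.IsCoh (res I F) := by
    haveI : AlgebraicGeometry.IsNoetherian I.subscheme :=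
      CohFound.isNoetherian_of_isProper (I.subschemeι ≫ CohB1.ProjSpace.toSpec (n + 1) k)
    exact CohFound.isCoh_of_isFinLocFree (M2.isFinLocFree_pullback _ hF)
  have h := euler_ses (k := k) hS e₁' e₂ e₃ (isCoh_tw p _) (isCoh_tw p t) (CohFound.isCoh_push_closedImm _ hres)
  have he : Curv2.euler k (CohB1.ProjSpace (n + 1) k) ((Scheme.Modules.pushforward I.subschemeι).obj (res I F)) =
      Curv2.euler k XG (res I F) := finsum_congr fun q => by
    obtain ⟨ε⟩ := nonempty_push_equiv I k rfl (res I F) hres.1 q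
    rw [ε.finrank_eq]
  rw [he] at h
  exact eq_sub_iff_add_eq'.2 h.symm

theorem eX_zero (t : ℤ) : eX G 0 t = eP k (n + 1) 0 t - eP k (n + 1) 0 (t - a) := by
  letI := overH G
  obtain ⟨z⟩ := (conormal_hyp G).nonempty_zero_iso
  rw [← euler_res G 0 t]
  exact euler_congr (M2.tensorIso z.symm (Iso.refl _) ≪≫ (M2.pullTensorIso _ _ _).symm)

theorem eX_succ (p : ℕ) (t : ℤ) :
    eX G (p + 1) t + eX G p (t - a) = eP k (n + 1) (p + 1) t - eP k (n + 1) (p + 1) (t - a) := by
  letI := overH G
  haveI : IsProper (CohB1.ProjSpace.toSpec (n + 1) k) := ProjSpace.isProper_toSpec _ k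
  haveI : IsProper (XG ↘ Spec (CommRingCat.of k)) :=
    inferInstanceAs (IsProper ((LefPen.hypIdeal G).subschemeι ≫ CohB1.ProjSpace.toSpec (n + 1) k))
  haveI : AlgebraicGeometry.IsNoetherian XG := CohFound.isNoetherian_of_isProper (XG ↘ Spec (CommRingCat.of k))
  have hc := conormal_hyp G
  obtain ⟨S, hS, ⟨e₁⟩, ⟨e₂⟩, ⟨e₃⟩⟩ := hc.exists_ses p (Twist.isInvertible_twistProjSpace (n + 1) k t)
  obtain ⟨τ⟩ := CIProj14.nonempty_idealMod_hypIdeal G (ne_zero_of_smooth G)
  obtain ⟨μ⟩ := Twist.nonempty_tensor_iso (CohB1.polyGrading (n + 1) k) (m := -(a : ℤ)) (n := t)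
    (Twist.iSup_basicOpen_one (n + 1) k)
  let e₁' := e₁ ≪≫ M2.tensorIso (Iso.refl _) ((Scheme.Modules.pullback (LefPen.hypIdeal G).subschemeι).mapIso
    (M2.tensorIso τ (Iso.refl _) ≪≫ μ ≪≫ eqToIso (congrArg (_root_.Twist.twist (CohB1.polyGrading (n + 1) k))
      (show -(a : ℤ) + t = t - a by ring))))
  have hl : ∀ q s, Coh.IsCoh (CohB1.tensorMod
      (Wedge2.extMod q (Omega.sheaf ((LefPen.hypIdeal G).subschemeι ≫ CohB1.ProjSpace.toSpec (n + 1) k)))
      (res (LefPen.hypIdeal G) (_root_.Twist.twistProjSpace (n + 1) k s))) := fun q s =>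
    CohFound.isCoh_of_isFinLocFree (M2.isFinLocFree_tensor (isFinLocFree_E hc.locFree' q)
      (M2.isFinLocFree_of_isInvertible (Twist.isInvertible_pullback _ (Twist.isInvertible_twistProjSpace _ k s))))
  have hm : Coh.IsCoh (res (LefPen.hypIdeal G)
      (CohB1.tensorMod (Euler2.Om (n + 1) k (p + 1)) (_root_.Twist.twistProjSpace (n + 1) k t))) :=
    CohFound.isCoh_of_isFinLocFree (M2.isFinLocFree_pullback _ (M2.isFinLocFree_tensor
      (isFinLocFree_E hc.locFree (p + 1)) (M2.isFinLocFree_of_isInvertible (Twist.isInvertible_twistProjSpace _ k t))))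
  have h := euler_ses (k := k) hS e₁' e₂ e₃ (hl p (t - a)) hm (hl (p + 1) t)
  rw [← euler_res G (p + 1) t]
  exact (add_comm _ _).trans h.symm

theorem eX_gt {p : ℕ} (hp : n < p) (t : ℤ) : eX G p t = 0 := by
  letI := overH G
  exact euler_zero_of_isZero (Functor.map_isZero (M2.tensorR _)
    ((conormal_hyp G).isZero_of_isZero p (Euler2.isZero_Om (n + 1) k (j := p + 1) (by omega))))

/-- The Euler characteristic of forms as an alternating sum up to the dimension. -/
theorem eX_eq_sum (p : ℕ) {L : (LefPen.hypIdeal G).subscheme.Modules}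
    (hL : ExtPow.IsExtPow p (Omega.sheaf ((LefPen.hypIdeal G).subschemeι ≫ CohB1.ProjSpace.toSpec (n + 1) k)) L) :
    letI := overH G
    eX G p 0 = ∑ q ∈ Finset.range (n + 1), (-1 : ℤ) ^ q * (Module.finrank k (Coh.HH XG L q) : ℤ) := by
  letI := overH G
  haveI : IsProper (CohB1.ProjSpace.toSpec (n + 1) k) := ProjSpace.isProper_toSpec _ k
  haveI : IsProper (XG ↘ Spec (CommRingCat.of k)) :=
    inferInstanceAs (IsProper ((LefPen.hypIdeal G).subschemeι ≫ CohB1.ProjSpace.toSpec (n + 1) k))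
  haveI : AlgebraicGeometry.IsNoetherian XG := CohFound.isNoetherian_of_isProper (XG ↘ Spec (CommRingCat.of k))
  obtain ⟨z⟩ := Twist.nonempty_twist_zero_iso (CohB1.polyGrading (n + 1) k)
  obtain ⟨e⟩ := ExtFil4.isoExtPow (isExtPow_E (conormal_hyp G).locFree' p) hL
  have hd : topologicalKrullDim XG ≤ ((n : ℕ) : WithBot ℕ∞) := by
    rw [VarDim.dim_eq_iSup_sdim ((LefPen.hypIdeal G).subschemeι ≫ CohB1.ProjSpace.toSpec (n + 1) k)]
    refine iSup_le fun x => ?_
    haveI : Smooth ((LefPen.hypIdeal G).subschemeι ≫ CohB1.ProjSpace.toSpec (n + 1) k) :=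
      SmoothOfRelativeDimension.smooth n _
    let f := (LefPen.hypIdeal G).subschemeι ≫ CohB1.ProjSpace.toSpec (n + 1) k
    have hZ : irreducibleComponent x ∈ irreducibleComponents XG := irreducibleComponent_mem_irreducibleComponents x
    have hc : IsClosed (irreducibleComponent x) := isClosed_irreducibleComponent
    rw [← FundIso12.dim_component_of_smooth f n hZ, VarDim.dim_irreducible_isClosed f hc hZ.1]
    have h : hZ.1.genericPoint ⤳ x := (hZ.1.isGenericPoint_genericPoint hc).specializes mem_irreducibleComponent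
    rcases eq_or_ne hZ.1.genericPoint x with he | he
    · rw [he]
    · exact_mod_cast (VarDim.sdim_lt_of_specializes f h he).le
  have hLc : Coh.IsCoh L := CohFound.isCoh_of_iso e
    (CohFound.isCoh_of_isFinLocFree (isFinLocFree_E (conormal_hyp G).locFree' p))
  have hb : EulerAdd18.Bdd k (n + 1) L := ⟨fun q => CohFound.finite_HH_of_isProper (A := k) L hLc q,
    fun q hq => Snapper.subsingleton_HH_of_dim k n hd hLc.1 (by omega)⟩
  refine Eq.trans ?_ hb.euler_eq
  exact euler_congr (M2.tensorIso e ((Scheme.Modules.pullback _).mapIso z ≪≫ PicLoc.pullbackStructureIso _) ≪≫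
    M2.tensorRUnit _)

end Groth.Agent.HdgLef1.ChiY
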