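import Groth.Agent.Lib.HdgLef1.Chain

/-!
# Forms along a filtration by twists

From the forms of a locally free `E` to those of a quotient `E'` by a line bundle `O(-a)`.
-/

set_option autoImplicit false
set_option linter.style.haveILetI false
set_option linter.unusedSectionVars false
set_option backward.isDefEq.respectTransparency false
set_option backward.isDefEq.respectTransparency.types false
set_option maxHeartbeats 1000000

universe u

open CategoryTheory CategoryTheory.Limits AlgebraicGeometry TopologicalSpace Opposite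

noncomputable section

namespace Groth.Agent.HdgLef1

open Groth.Agent CurveCoh17

section LES

variable (k : Type u) [CommRing k] {X : Scheme.{u}} [X.Over (Spec (CommRingCat.of k))]
  {S : ShortComplex X.Modules} (hS : S.ShortExact)
include k hS

theorem bijective_f {q : ℕ} (h₃ : Subsingleton (Coh.HH X S.X₃ q)) (h₃' : Subsingleton (Coh.HH X S.X₃ (q + 1))) :
    Function.Bijective (hmap k S.f (q + 1)) :=
  ⟨(injective_iff_map_eq_zero _).2 fun x hx => by
      obtain ⟨y, rfl⟩ := (exact_hdelta_hmap k hS q x).1 hx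
      rw [Subsingleton.elim y 0, map_zero],
    fun x => (exact_hmap_hmap k hS (q + 1) x).1 (Subsingleton.elim _ _)⟩

end LES

variable {k : Type u} [Field k] {m : ℕ} {Y : Scheme.{u}} (j : Y ⟶ CohB1.ProjSpace m k)

/-- The pulled back `O(t)`. -/
abbrev twO (t : ℤ) : Y.Modules := (Scheme.Modules.pullback j).obj (_root_.Twist.twistProjSpace m k t)

/-- A twist of an exterior power. -/
abbrev twE (E : Y.Modules) (p : ℕ) (t : ℤ) : Y.Modules := CohB1.tensorMod (Wedge2.extMod p E) (twO j t)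

theorem nonempty_twO_add (s t : ℤ) : Nonempty (CohB1.tensorMod (twO j s) (twO j t) ≅ twO j (s + t)) := by
  obtain ⟨μ⟩ := Twist.nonempty_tensor_iso (CohB1.polyGrading m k) (m := s) (n := t) (Twist.iSup_basicOpen_one m k)
  exact ⟨(M2.pullTensorIso j _ _).symm ≪≫ (Scheme.Modules.pullback j).mapIso μ⟩

/-- The cohomology of the twisted exterior powers of a locally free module on an `n`-dimensional scheme, which is
an extension of the differentials by `r` twists of degree sum `A`. -/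
structure FiltForms (E : Y.Modules) (n r A : ℕ) : Prop where
  locFree : FlatMod.IsFinLocFree E
  isZero : ∀ p, n + r < p → IsZero (Wedge2.extMod p E)
  neg : ∀ (p q : ℕ) (t : ℤ), t < 0 → p + q < n → Subsingleton (Coh.HH Y (twE j E p t) q)
  zero : ∀ p q : ℕ, p + q < n → q ≠ p → Subsingleton (Coh.HH Y (twE j E p 0) q)
  low : ∀ p : ℕ, p + p < n → letI := overP j; Nonempty (Coh.HH Y (twE j E p 0) p ≃ₗ[k] k)
  high : ∀ (p q : ℕ) (t : ℤ), n + r < p + q → (A : ℤ) ≤ t → ((A : ℤ) < t ∨ p ≠ q + r) →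
    Subsingleton (Coh.HH Y (twE j E p t) q)
  top : ∀ q : ℕ, n < q + q → q ≤ n →
    letI := overP j; Nonempty (Coh.HH Y (twE j E (q + r) (A : ℤ)) q ≃ₗ[k] k)

/-- The base of the filtration: forms of projective space restricted to a complete intersection. -/
theorem filtForms_of_ciForms {n d S : ℕ} (hnd : n + d = m) (h : CIForms j n d S) :
    FiltForms j ((Scheme.Modules.pullback j).obj (Omega.sheaf (CohB1.ProjSpace.toSpec m k))) n d S := by
  letI := overP j
  have hΩ := M2.isFinLocFree_of_ofRank (Euler2.rank_omega m k)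
  have hE := M2.isFinLocFree_pullback j hΩ
  have hi : ∀ p, Nonempty (Wedge2.extMod p ((Scheme.Modules.pullback j).obj (Omega.sheaf (CohB1.ProjSpace.toSpec m k))) ≅
      (Scheme.Modules.pullback j).obj (Euler2.Om m k p)) := fun p =>
    ExtFil4.isoExtPow (isExtPow_E hE p) (Wedge2.isExtPow_pullback' j (M2.isQCoh_of_isFinLocFree hΩ) (isExtPow_E hΩ p))
  have hz : ∀ p, n + d < p → IsZero (Wedge2.extMod p
      ((Scheme.Modules.pullback j).obj (Omega.sheaf (CohB1.ProjSpace.toSpec m k)))) := fun p hp =>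
    (Functor.map_isZero (Scheme.Modules.pullback j) (Euler2.isZero_Om m k (j := p) (by omega))).of_iso (hi p).some
  have ht : ∀ p t, Nonempty (twE j ((Scheme.Modules.pullback j).obj (Omega.sheaf (CohB1.ProjSpace.toSpec m k))) p t ≅
      twR j p t) := fun p t => ⟨M2.tensorIso (hi p).some (Iso.refl _) ≪≫ (M2.pullTensorIso j _ _).symm⟩
  refine ⟨hE, hz, fun p q t h₁ h₂ => van_congr k (ht p t).some.symm (h.neg p q t h₁ (by omega)),
    fun p q h₁ h₂ => van_congr k (ht p 0).some.symm (h.zero p q (by omega) h₂),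
    fun p hp => ⟨(hequiv k (ht p 0).some p).trans (h.low p (by omega)).some⟩, fun p q t h₁ h₂ h₃ => ?_,
    fun q h₁ h₂ => ⟨(hequiv k (ht (q + d) (S : ℤ)).some q).trans (h.top q (by omega) (by omega) (by omega)).some⟩⟩
  rcases Nat.eq_zero_or_pos q with rfl | hq
  · exact van_of_isZero k (Functor.map_isZero (M2.tensorR _) (hz p (by omega))) 0
  · exact van_congr k (ht p t).some.symm (h.high p q t (by omega) hq h₂ h₃)

/-- One step of the filtration. -/
theorem FiltForms.step {E E' : Y.Modules} {n r A a : ℕ} (ha : 1 ≤ a) (h : FiltForms j E n (r + 1) (A + a))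
    (T : ShortComplex Y.Modules) (hT : T.ShortExact) (e₁ : T.X₁ ≅ twO j (-(a : ℤ))) (e₂ : T.X₂ ≅ E)
    (e₃ : T.X₃ ≅ E') (hE' : FlatMod.IsFinLocFree E') : FiltForms j E' n r A := by
  letI := overP j
  have hLi : ∀ t, PicF.IsInvertible (twO j t) := fun t =>
    Twist.isInvertible_pullback j (Twist.isInvertible_twistProjSpace m k t)
  have hses : ∀ (p : ℕ) (t : ℤ), ∃ S : ShortComplex Y.Modules, S.ShortExact ∧
      Nonempty (S.X₁ ≅ twE j E' p (t - a)) ∧ Nonempty (S.X₂ ≅ twE j E (p + 1) t) ∧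
      Nonempty (S.X₃ ≅ twE j E' (p + 1) t) := by
    intro p t
    obtain ⟨S, hS, ⟨s₁⟩, h2, h3⟩ := exists_wedge_ses_sub T hT (p := p) (n := p + 1) (Nat.add_comm 1 p)
      ((M2.isInvertible_iff_isFinLocFreeOfRank_one _).1 (M2.isInvertible_of_iso e₁.symm (hLi _)))
      (M2.isFinLocFree_of_iso e₂.symm h.locFree) (M2.isFinLocFree_of_iso e₃.symm hE')
      (Wedge2.isExtPow_of_iso e₃.symm (Iso.refl _) (isExtPow_E hE' p))
      (Wedge2.isExtPow_of_iso e₂.symm (Iso.refl _) (isExtPow_E h.locFree (p + 1)))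
      (Wedge2.isExtPow_of_iso e₃.symm (Iso.refl _) (isExtPow_E hE' (p + 1)))
      (M2.isQCoh_of_isFinLocFree (isFinLocFree_E hE' p))
    obtain ⟨μ⟩ := nonempty_twO_add j (-(a : ℤ)) t
    exact ⟨S.map (M2.tensorR (twO j t)), CohFound.shortExact_tensor_invertible hS (hLi t),
      ⟨M2.tensorIso (s₁ ≪≫ M2.tensorIso e₁ (Iso.refl _) ≪≫ M2.tensorComm _ _) (Iso.refl _) ≪≫ M2.tensorAssoc _ _ _ ≪≫
        M2.tensorIso (Iso.refl _) (μ ≪≫ eqToIso (congrArg (twO j) (by ring)))⟩,
      ⟨M2.tensorIso (eqToIso h2) (Iso.refl _)⟩, ⟨M2.tensorIso (eqToIso h3) (Iso.refl _)⟩⟩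
  have h00 : ∀ t : ℤ, Nonempty (twE j E 0 t ≅ twE j E' 0 t) := fun t => by
    obtain ⟨x⟩ := ExtFil4.isoExtPow (isExtPow_E h.locFree 0) (ExtFil4.isExtPow_zero _)
    obtain ⟨y⟩ := ExtFil4.isoExtPow (isExtPow_E hE' 0) (ExtFil4.isExtPow_zero _)
    exact ⟨M2.tensorIso (x ≪≫ y.symm) (Iso.refl _)⟩
  have hz : ∀ p, n + r < p → IsZero (Wedge2.extMod p E') := by
    intro p hp
    obtain ⟨S, hS, ⟨s₁⟩, ⟨s₂⟩, -⟩ := hses p (a : ℤ)
    haveI := hS.mono_f
    have hz₁ : IsZero S.X₁ := IsZero.of_mono S.f ((Functor.map_isZero (M2.tensorR _) (h.isZero (p + 1) (by omega))).of_iso s₂)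
    obtain ⟨z⟩ := Twist.nonempty_twist_zero_iso (CohB1.polyGrading m k)
    exact hz₁.of_iso (s₁ ≪≫ M2.tensorIso (Iso.refl _) (eqToIso (congrArg (twO j) (show ((a : ℤ) - a) = 0 by ring)) ≪≫
      (Scheme.Modules.pullback j).mapIso z ≪≫ PicLoc.pullbackStructureIso j) ≪≫ M2.tensorRUnit _).symm
  have hneg : ∀ (p q : ℕ) (t : ℤ), t < 0 → p + q < n → Subsingleton (Coh.HH Y (twE j E' p t) q) := by
    intro p
    induction p with
    | zero => exact fun q t ht hq => van_congr k (h00 t).some (h.neg 0 q t ht hq)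
    | succ p ih =>
      intro q t ht hq
      obtain ⟨S, hS, ⟨s₁⟩, ⟨s₂⟩, ⟨s₃⟩⟩ := hses p t
      exact van_congr k s₃ (sub_right k hS (van_congr k s₂.symm (h.neg (p + 1) q t ht hq))
        (van_congr k s₁.symm (ih (q + 1) (t - a) (by omega) (by omega))))
  have hhigh : ∀ (q p : ℕ) (t : ℤ), n + r < p + q → (A : ℤ) ≤ t → ((A : ℤ) < t ∨ p ≠ q + r) →
      Subsingleton (Coh.HH Y (twE j E' p t) q) := by
    intro q
    induction q with
    | zero => exact fun p t hp _ _ => van_of_isZero k (Functor.map_isZero (M2.tensorR _) (hz p (by omega))) 0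
    | succ q ih =>
      intro p t hp ht hne
      obtain ⟨S, hS, ⟨s₁⟩, ⟨s₂⟩, ⟨s₃⟩⟩ := hses p (t + a)
      refine van_congr k (s₁ ≪≫ eqToIso (congrArg (twE j E' p) (by ring))) (sub_left k hS
        (van_congr k s₂.symm (h.high (p + 1) (q + 1) (t + a) (by omega) (by push_cast; omega) (by push_cast; omega)))
        (van_congr k s₃.symm (ih (p + 1) (t + a) (by omega) (by omega) (Or.inl (by omega)))))
  refine ⟨hE', hz, hneg, fun p q hpq hne => ?_, fun p hp => ?_, fun p q => hhigh q p, fun q hq hqn => ?_⟩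
  · cases p with
    | zero => exact van_congr k (h00 0).some (h.zero 0 q hpq hne)
    | succ p =>
      obtain ⟨S, hS, ⟨s₁⟩, ⟨s₂⟩, ⟨s₃⟩⟩ := hses p 0
      exact van_congr k s₃ (sub_right k hS (van_congr k s₂.symm (h.zero (p + 1) q hpq hne))
        (van_congr k s₁.symm (hneg p (q + 1) (0 - a) (by omega) (by omega))))
  · cases p with
    | zero => exact ⟨(hequiv k (h00 0).some 0).symm.trans (h.low 0 hp).some⟩
    | succ p =>
      obtain ⟨S, hS, ⟨s₁⟩, ⟨s₂⟩, ⟨s₃⟩⟩ := hses p 0
      have hb : Function.Bijective (hmap k S.g (p + 1)) :=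
        ⟨injective_g k hS (van_congr k s₁.symm (hneg p (p + 1) (0 - a) (by omega) (by omega))),
          surjective_g k hS (van_congr k s₁.symm (hneg p (p + 1 + 1) (0 - a) (by omega) (by omega)))⟩
      exact ⟨(hequiv k s₃ (p + 1)).symm.trans ((LinearEquiv.ofBijective _ hb).symm.trans
        ((hequiv k s₂ (p + 1)).trans (h.low (p + 1) hp).some))⟩
  · obtain ⟨q, rfl⟩ : ∃ q', q = q' + 1 := ⟨q - 1, by omega⟩
    obtain ⟨S, hS, ⟨s₁⟩, ⟨s₂⟩, ⟨s₃⟩⟩ := hses (q + 1 + r) ((A + a : ℕ) : ℤ)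
    have hb := bijective_f k hS (q := q)
      (van_congr k s₃.symm (hhigh q _ _ (by omega) (by omega) (Or.inl (by omega))))
      (van_congr k s₃.symm (hhigh (q + 1) _ _ (by omega) (by omega) (Or.inl (by omega))))
    obtain ⟨c⟩ := h.top (q + 1) hq hqn
    exact ⟨(hequiv k (s₁ ≪≫ eqToIso (congrArg (twE j E' (q + 1 + r)) (by push_cast; ring))) (q + 1)).symm.trans
      ((LinearEquiv.ofBijective _ hb).trans ((hequiv k s₂ (q + 1)).trans c))⟩

end Groth.Agent.HdgLef1
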