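import Groth.Agent.Lib.HdgLef1.Filt
import Groth.Agent.Lib.DetSES2.Free
import Groth.Agent.Lib.PushUnit3.Basic
import Groth.Agent.Lib.KFlat.FinLocFree
import Mathlib.CategoryTheory.Abelian.Refinements

/-!
# Filtering an extension by a sum of twists

If `0 → ⊕ O(-a_l) → E → Q → 0` is exact with `Q` locally free, the forms of `Q` follow from those of `E`.
-/

set_option autoImplicit false
set_option linter.style.haveILetI false
set_option linter.unusedSectionVars false
set_option backward.isDefEq.respectTransparency false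
set_option backward.isDefEq.respectTransparency.types false
set_option maxHeartbeats 1000000

universe u

open CategoryTheory CategoryTheory.Limits AlgebraicGeometry TopologicalSpace Opposite

noncomputable section

attribute [local instance] Abelian.hasFiniteBiproducts

namespace Groth.Agent.HdgLef1

open Groth.Agent

variable {X : Scheme.{u}}

/-- An extension of finite locally free modules is finite locally free. -/
theorem isFinLocFree_middle (S : ShortComplex X.Modules) (hS : S.ShortExact) (h₂ : Coh.IsQCoh S.X₂)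
    (h₁ : FlatMod.IsFinLocFree S.X₁) (h₃ : FlatMod.IsFinLocFree S.X₃) : FlatMod.IsFinLocFree S.X₂ := by
  refine ResDesc11.isFinLocFree_of_isBas fun x => ?_
  obtain ⟨p, D₁, e₁, hx₁, he₁⟩ := PushUnit3.exists_isBas_nhd' h₁ x
  obtain ⟨q, D₃, e₃, hx₃, he₃⟩ := PushUnit3.exists_isBas_nhd' h₃ x
  obtain ⟨V, hV, hxV, hVle⟩ := exists_isAffineOpen_mem_and_subset (U := D₁ ⊓ D₃) (x := x) ⟨hx₁, hx₃⟩
  have h : V ≤ D₁ ⊓ D₃ := hVle
  obtain ⟨b₁⟩ := DetSES2.nonempty_basis' (h.trans inf_le_left) he₁
  obtain ⟨b₃⟩ := DetSES2.nonempty_basis' (h.trans inf_le_right) he₃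
  obtain ⟨sp⟩ := ExtFil4.nonempty_split hS h₂ (M2.isQCoh_of_isFinLocFree h₃) ⟨V, hV⟩ (Module.Free.of_basis b₃)
  have hex : Function.Exact (KoszShH13.appLin S.f V) (KoszShH13.appLin S.g V) := fun y => by
    refine ⟨fun hy => ExtFil4.hker hS V y hy, ?_⟩
    rintro ⟨a, rfl⟩
    exact ExtFil4.hgf S V a
  have hinj : Function.Injective (KoszShH13.appLin S.f V) := fun a b hab => by
    rw [← sp.hr a, ← sp.hr b, hab]
  let e := (hex.splitSurjectiveEquiv hinj ⟨sp.s, LinearMap.ext sp.hs⟩).1
  let b := ((b₁.prod b₃).map e.symm).reindex finSumFinEquiv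
  exact ⟨_, V, _, hxV, BlowKoszul2.isBas_of_basis h₂ hV b⟩

section Sum

variable {d : ℕ} (L : Fin (d + 1) → X.Modules)

/-- The first summands. -/
abbrev initSum : X.Modules := ∐ fun l : Fin d => L l.castSucc

/-- The inclusion of the first summands. -/
def initι : initSum L ⟶ ∐ L := Sigma.desc fun l => Sigma.ι L l.castSucc

/-- The projection on the last summand. -/
def lastπ : (∐ L) ⟶ L (Fin.last d) :=
  Sigma.desc (Fin.lastCases (𝟙 _) fun _ => 0)

/-- The projection on the first summands. -/
def initπ : (∐ L) ⟶ initSum L :=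
  Sigma.desc (Fin.lastCases 0 fun l => Sigma.ι (fun l : Fin d => L l.castSucc) l)

theorem ι_last_lastπ : Sigma.ι L (Fin.last d) ≫ lastπ L = 𝟙 _ := by simp [lastπ]

theorem ι_last_initπ : Sigma.ι L (Fin.last d) ≫ initπ L = 0 := by simp [initπ]

theorem initι_initπ : initι L ≫ initπ L = 𝟙 _ := by ext l; simp [initι, initπ]

theorem sum_decomp : initπ L ≫ initι L + lastπ L ≫ Sigma.ι L (Fin.last d) = 𝟙 _ := by
  refine Sigma.hom_ext _ _ fun l => ?_
  refine Fin.lastCases ?_ (fun l => ?_) l <;> simp [initι, initπ, lastπ, Preadditive.comp_add]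

theorem shortExact_sum :
    (ShortComplex.mk (Sigma.ι L (Fin.last d)) (initπ L) (ι_last_initπ L)).ShortExact :=
  ShortComplex.Splitting.shortExact
    { r := lastπ L
      s := initι L
      f_r := ι_last_lastπ L
      s_g := initι_initπ L
      id := (add_comm _ _).trans (sum_decomp L) }

end Sum

theorem isFinLocFree_sum {d : ℕ} (L : Fin d → X.Modules) (hL : ∀ l, FlatMod.IsFinLocFree (L l)) :
    FlatMod.IsFinLocFree (∐ L) :=
  M2.isFinLocFree_of_iso (biproduct.isoCoproduct L) (KFlat.Sch.isFinLocFree_biproduct L hL)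

variable {k : Type u} [Field k] {m : ℕ} (j : X ⟶ CohB1.ProjSpace m k)

/-- Forms of a quotient by a sum of twists. -/
theorem filtForms_quotient {n : ℕ} : ∀ {d : ℕ} (a : Fin d → ℕ), (∀ l, 1 ≤ a l) → ∀ (E Q : X.Modules)
    (f : (∐ fun l : Fin d => twO j (-(a l : ℤ))) ⟶ E) (g : E ⟶ Q) (w : f ≫ g = 0),
    (ShortComplex.mk f g w).ShortExact → FlatMod.IsFinLocFree Q →
    FiltForms j E n d (∑ l, a l) → FiltForms j Q n 0 0 := by
  intro d
  induction d with
  | zero =>
    intro a _ E Q f g w hS hQ hE
    haveI := hS.epi_g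
    have hz : IsZero (∐ fun l : Fin 0 => twO j (-(a l : ℤ))) := by
      rw [IsZero.iff_id_eq_zero]
      exact Sigma.hom_ext _ _ fun l => l.elim0
    haveI : IsIso g := hS.isIso_g_iff.2 hz
    have hA : ∀ p, Nonempty (Wedge2.extMod p E ≅ Wedge2.extMod p Q) := fun p =>
      ExtFil4.isoExtPow (isExtPow_E hE.locFree p) (Wedge2.isExtPow_of_iso (asIso g).symm (Iso.refl _) (isExtPow_E hQ p))
    have ht : ∀ p t, twE j E p t ≅ twE j Q p t := fun p t => M2.tensorIso (hA p).some (Iso.refl _)
    letI := overP j
    simp only [Finset.univ_eq_empty, Finset.sum_empty] at hE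
    refine ⟨hQ, fun p hp => (hE.isZero p hp).of_iso (hA p).some.symm,
      fun p q t h₁ h₂ => van_congr k (ht p t) (hE.neg p q t h₁ h₂),
      fun p q h₁ h₂ => van_congr k (ht p 0) (hE.zero p q h₁ h₂),
      fun p h₁ => ⟨(CurveCoh17.hequiv k (ht p 0) p).symm.trans (hE.low p h₁).some⟩,
      fun p q t h₁ h₂ h₃ => van_congr k (ht p t) (hE.high p q t h₁ h₂ h₃),
      fun q h₁ h₂ => ⟨(CurveCoh17.hequiv k (ht _ _) q).symm.trans (hE.top q h₁ h₂).some⟩⟩
  | succ d ih =>
    intro a ha E Q f g w hS hQ hE
    haveI := hS.mono_f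
    haveI := hS.epi_g
    let L := fun l : Fin (d + 1) => twO j (-(a l : ℤ))
    have hL : ∀ l, FlatMod.IsFinLocFree (L l) := fun l => M2.isFinLocFree_of_isInvertible
      (Twist.isInvertible_pullback j (Twist.isInvertible_twistProjSpace m k _))
    let u : L (Fin.last d) ⟶ E := Sigma.ι L (Fin.last d) ≫ f
    haveI : Mono (Sigma.ι L (Fin.last d)) := (shortExact_sum L).mono_f
    haveI : Mono u := mono_comp _ _
    let T := ShortComplex.mk u (cokernel.π u) (cokernel.condition u)
    have hT : T.ShortExact := ShortComplex.ShortExact.mk' (ShortComplex.exact_cokernel u) inferInstance inferInstance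
    let f' : initSum L ⟶ cokernel u := initι L ≫ f ≫ cokernel.π u
    let g' : cokernel u ⟶ Q := cokernel.desc u g (by rw [Category.assoc, w, comp_zero])
    have w' : f' ≫ g' = 0 := by simp only [f', g', Category.assoc, cokernel.π_desc, w, comp_zero]
    have hS' : (ShortComplex.mk f' g' w').ShortExact := by
      refine ShortComplex.ShortExact.mk' ?_ ?_ ?_
      · rw [ShortComplex.exact_iff_exact_up_to_refinements]
        intro A x hx
        obtain ⟨A', π, hπ, z, hz⟩ := surjective_up_to_refinements_of_epi (cokernel.π u) x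
        have hzg : z ≫ g = 0 := by
          rw [← cokernel.π_desc u g (by rw [Category.assoc, w, comp_zero]), ← Category.assoc, ← hz, Category.assoc]
          exact (congrArg (π ≫ ·) hx).trans comp_zero
        obtain ⟨c, hc⟩ := hS.exact.lift' z hzg
        refine ⟨A', π, hπ, c ≫ initπ L, ?_⟩
        show π ≫ x = (c ≫ initπ L) ≫ f'
        rw [hz, ← hc]
        have hd := congrArg (fun φ => c ≫ φ ≫ f ≫ cokernel.π u) (sum_decomp L)
        simp only [Preadditive.add_comp, Preadditive.comp_add, Category.assoc, Category.id_comp] at hd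
        have h0 : Sigma.ι L (Fin.last d) ≫ f ≫ cokernel.π u = 0 := by
          rw [← Category.assoc]; exact cokernel.condition u
        rw [h0, comp_zero, comp_zero, add_zero] at hd
        simp only [f', Category.assoc]
        exact hd.symm
      · refine Preadditive.mono_of_cancel_zero _ fun {A} x (hx : x ≫ f' = 0) => ?_
        obtain ⟨y, hy⟩ := hT.exact.lift' (x ≫ initι L ≫ f) (by
          show (x ≫ initι L ≫ f) ≫ cokernel.π u = 0
          simpa [f'] using hx)
        have h1 : y ≫ Sigma.ι L (Fin.last d) = x ≫ initι L := by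
          rw [← cancel_mono f, Category.assoc, Category.assoc]
          exact hy
        have h2 := congrArg (· ≫ initπ L) h1
        simp only [Category.assoc, ι_last_initπ, initι_initπ, comp_zero, Category.comp_id] at h2
        exact h2.symm
      · haveI : Epi (cokernel.π u ≫ g') := by rw [cokernel.π_desc]; infer_instance
        exact epi_of_epi (cokernel.π u) g'
    have hc : FlatMod.IsFinLocFree (cokernel u) :=
      isFinLocFree_middle _ hS' (M1.isQCoh_cokernel (M2.isQCoh_of_isFinLocFree (hL _))
        (M2.isQCoh_of_isFinLocFree hE.locFree) u) (isFinLocFree_sum _ fun l => hL _) hQ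
    have hE' := hE
    rw [Fin.sum_univ_castSucc] at hE'
    exact ih (fun l => a l.castSucc) (fun l => ha _) (cokernel u) Q f' g' w' hS' hQ
      (hE'.step j (ha (Fin.last d)) T hT (Iso.refl _) (Iso.refl _) (Iso.refl _) hc)

end Groth.Agent.HdgLef1
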