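import Groth.Agent.Lib.HdgLef1.WedgeSub
import Groth.Agent.Lib.TensorMod.IdealMod
import Groth.Agent.Lib.TensorMod.PullTensor
import Groth.Agent.Lib.CurveCoh17.TensorExact
import Groth.Agent.Lib.CurveCoh17.LES
import Groth.Agent.Lib.CurveCoh17.AffPush
import Groth.Agent.Lib.CohFound.ClosedImmPush
import Groth.Agent.Lib.CohFound.SerreVan
import Groth.Agent.Lib.ExtFil4.Lambda
import Groth.Agent.Lib.Wedge2.Exists
import Groth.Agent.Lib.Wedge2.Props
import Groth.Agent.Lib.DeRhamH7.Terms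

/-!
# The two sequences of a smooth divisor

For a divisor `Y` with ideal module `M` the restriction sequence `0 → F ⊗ M → F → i_*i^*F → 0`, and, from a conormal
sequence `0 → i^*M → i^*Ω_X → Ω_Y → 0`, the sequences
`0 → Ω^p_Y ⊗ i^*(M ⊗ G) → i^*(Ω^{p+1}_X ⊗ G) → Ω^{p+1}_Y ⊗ i^*G → 0`.
-/

set_option autoImplicit false
set_option linter.style.haveILetI false
set_option linter.unusedSectionVars false
set_option backward.isDefEq.respectTransparency false
set_option backward.isDefEq.respectTransparency.types false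
set_option maxHeartbeats 1000000

universe u

open CategoryTheory CategoryTheory.Limits AlgebraicGeometry TopologicalSpace Opposite

noncomputable section

namespace Groth.Agent.HdgLef1

open Groth.Agent CurveCoh17

section LES

variable (k : Type u) [CommRing k] {X : Scheme.{u}} [X.Over (Spec (CommRingCat.of k))]
  {S : ShortComplex X.Modules} (hS : S.ShortExact)
include k hS

theorem sub_right {q : ℕ} (h₂ : Subsingleton (Coh.HH X S.X₂ q)) (h₁ : Subsingleton (Coh.HH X S.X₁ (q + 1))) :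
    Subsingleton (Coh.HH X S.X₃ q) :=
  subsingleton_of_forall_eq 0 fun x => by
    obtain ⟨y, rfl⟩ := (exact_hmap_hdelta k hS q x).1 (Subsingleton.elim _ _)
    rw [Subsingleton.elim y 0, map_zero]

theorem sub_left {q : ℕ} (h₂ : Subsingleton (Coh.HH X S.X₂ (q + 1))) (h₃ : Subsingleton (Coh.HH X S.X₃ q)) :
    Subsingleton (Coh.HH X S.X₁ (q + 1)) :=
  subsingleton_of_forall_eq 0 fun x => by
    obtain ⟨y, rfl⟩ := (exact_hdelta_hmap k hS q x).1 (Subsingleton.elim _ _)
    rw [Subsingleton.elim y 0, map_zero]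

theorem injective_g {q : ℕ} (h₁ : Subsingleton (Coh.HH X S.X₁ q)) : Function.Injective (hmap k S.g q) :=
  (injective_iff_map_eq_zero _).2 fun x hx => by
    obtain ⟨y, rfl⟩ := (exact_hmap_hmap k hS q x).1 hx
    rw [Subsingleton.elim y 0, map_zero]

theorem surjective_g {q : ℕ} (h₁ : Subsingleton (Coh.HH X S.X₁ (q + 1))) : Function.Surjective (hmap k S.g q) :=
  fun x => (exact_hmap_hdelta k hS q x).1 (Subsingleton.elim _ _)

end LES

theorem van_congr {X : Scheme.{u}} (k : Type u) [CommRing k] [X.Over (Spec (CommRingCat.of k))] {M N : X.Modules}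
    (e : M ≅ N) {q : ℕ} (h : Subsingleton (Coh.HH X M q)) : Subsingleton (Coh.HH X N q) :=
  (hequiv k e q).symm.toEquiv.subsingleton

variable {X : Scheme.{u}} (I : X.IdealSheafData)

/-- Restriction to the subscheme. -/
abbrev res (F : X.Modules) : I.subscheme.Modules := (Scheme.Modules.pullback I.subschemeι).obj F

/-- The restriction sequence. -/
theorem exists_restr_ses (F : X.Modules) (hF : FlatMod.IsFinLocFree F) :
    ∃ S : ShortComplex X.Modules, S.ShortExact ∧ Nonempty (S.X₁ ≅ CohB1.tensorMod F (ClSub.idealMod I)) ∧ Nonempty (S.X₂ ≅ F) ∧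
      Nonempty (S.X₃ ≅ (Scheme.Modules.pushforward I.subschemeι).obj (res I F)) := by
  haveI : Coh.IsQCoh F := M2.isQCoh_of_isFinLocFree hF
  obtain ⟨p⟩ := CohFound.nonempty_push_tensor_iso I.subschemeι (Coh.structureModule I.subscheme)
    (M1.isQCoh_structureModule _) F inferInstance
  exact ⟨_, CurveCoh17.shortExact_tensorR (M2.shortExact_idealMod (I := I)) F (ExtFil4.flat_stalk hF),
    ⟨M2.tensorComm _ F⟩, ⟨M2.tensorLUnit F⟩,
    ⟨p.symm ≪≫ (Scheme.Modules.pushforward I.subschemeι).mapIso (M2.tensorLUnit _)⟩⟩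

section Cohomology

variable (k : Type u) [CommRing k] [X.Over (Spec (CommRingCat.of k))] [Scheme.Over I.subscheme (Spec (CommRingCat.of k))]
  (hover : I.subschemeι ≫ (X ↘ Spec (CommRingCat.of k)) = I.subscheme ↘ Spec (CommRingCat.of k))
include k hover

/-- Cohomology of the restriction to the divisor, read on `X`. -/
theorem nonempty_push_equiv (N : I.subscheme.Modules) (hN : Coh.IsQCoh N) (q : ℕ) :
    Nonempty (Coh.HH X ((Scheme.Modules.pushforward I.subschemeι).obj N) q ≃ₗ[k] Coh.HH I.subscheme N q) :=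
  haveI : N.IsQuasicoherent := hN
  CurveCoh17.nonempty_hequiv_push k I.subschemeι hover N q

/-- Vanishing on the divisor from vanishing on `X`. -/
theorem van_restr {F : X.Modules} (hF : FlatMod.IsFinLocFree F) {q : ℕ} (h : Subsingleton (Coh.HH X F q))
    (h' : Subsingleton (Coh.HH X (CohB1.tensorMod F (ClSub.idealMod I)) (q + 1))) : Subsingleton (Coh.HH I.subscheme (res I F) q) := by
  obtain ⟨S, hS, ⟨e₁⟩, ⟨e₂⟩, ⟨e₃⟩⟩ := exists_restr_ses I F hF
  obtain ⟨ε⟩ := nonempty_push_equiv I k hover (res I F) (M2.isQCoh_of_isFinLocFree (M2.isFinLocFree_pullback _ hF)) q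
  haveI := sub_right k hS (van_congr k e₂.symm h) (van_congr k e₁.symm h')
  exact ((hequiv k e₃ q).trans ε).symm.toEquiv.subsingleton

/-- Restriction is injective when the twist has no cohomology, and bijective when also one degree higher. -/
theorem exists_restr_map {F : X.Modules} (hF : FlatMod.IsFinLocFree F) {q : ℕ}
    (h : Subsingleton (Coh.HH X (CohB1.tensorMod F (ClSub.idealMod I)) q)) :
    ∃ r : Coh.HH X F q →ₗ[k] Coh.HH I.subscheme (res I F) q, Function.Injective r ∧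
      (Subsingleton (Coh.HH X (CohB1.tensorMod F (ClSub.idealMod I)) (q + 1)) → Function.Surjective r) := by
  obtain ⟨S, hS, ⟨e₁⟩, ⟨e₂⟩, ⟨e₃⟩⟩ := exists_restr_ses I F hF
  obtain ⟨ε⟩ := nonempty_push_equiv I k hover (res I F) (M2.isQCoh_of_isFinLocFree (M2.isFinLocFree_pullback _ hF)) q
  refine ⟨((hequiv k e₃ q).trans ε).toLinearMap.comp ((hmap k S.g q).comp (hequiv k e₂ q).symm.toLinearMap), ?_,
    fun h' => ?_⟩
  · exact ((hequiv k e₃ q).trans ε).injective.comp ((injective_g k hS (van_congr k e₁.symm h)).comp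
      (hequiv k e₂ q).symm.injective)
  · exact ((hequiv k e₃ q).trans ε).surjective.comp ((surjective_g k hS (van_congr k e₁.symm h')).comp
      (hequiv k e₂ q).symm.surjective)

end Cohomology

/-- A conormal sequence of the divisor, relative to given modules of differentials. -/
structure Conormal (ΩX : X.Modules) (ΩY : I.subscheme.Modules) : Prop where
  inv : PicF.IsInvertible (ClSub.idealMod I)
  locFree : FlatMod.IsFinLocFree ΩX
  locFree' : FlatMod.IsFinLocFree ΩY
  ses : ∃ T : ShortComplex I.subscheme.Modules, T.ShortExact ∧ Nonempty (T.X₁ ≅ res I (ClSub.idealMod I)) ∧ Nonempty (T.X₂ ≅ res I ΩX) ∧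
    Nonempty (T.X₃ ≅ ΩY)

variable {I} {ΩX : X.Modules} {ΩY : I.subscheme.Modules}


theorem isExtPow_E (hΩ : FlatMod.IsFinLocFree ΩX) (p : ℕ) : ExtPow.IsExtPow p ΩX (Wedge2.extMod (p) ΩX) := by
  haveI : Coh.IsQCoh ΩX := M2.isQCoh_of_isFinLocFree hΩ
  exact Wedge2.isExtPow_extMod p ΩX

theorem isFinLocFree_E (hΩ : FlatMod.IsFinLocFree ΩX) (p : ℕ) : FlatMod.IsFinLocFree (Wedge2.extMod (p) ΩX) :=
  DeRhamH7.isFinLocFree_extPow hΩ (isExtPow_E hΩ p)

/-- In degree zero restriction is the identity. -/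
theorem Conormal.nonempty_zero_iso (hc : Conormal I ΩX ΩY) : Nonempty (res I (Wedge2.extMod (0) ΩX) ≅ (Wedge2.extMod (0) ΩY)) := by
  obtain ⟨a⟩ := ExtFil4.isoExtPow (Wedge2.isExtPow_pullback' I.subschemeι (M2.isQCoh_of_isFinLocFree hc.locFree)
    (isExtPow_E hc.locFree 0)) (ExtFil4.isExtPow_zero _)
  obtain ⟨b⟩ := ExtFil4.isoExtPow (isExtPow_E hc.locFree' 0) (ExtFil4.isExtPow_zero _)
  exact ⟨a ≪≫ b.symm⟩

/-- The twisted exterior conormal sequences. -/
theorem Conormal.exists_ses (hc : Conormal I ΩX ΩY) (p : ℕ) {G : X.Modules} (hG : PicF.IsInvertible G) :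
    ∃ S : ShortComplex I.subscheme.Modules, S.ShortExact ∧
      Nonempty (S.X₁ ≅ CohB1.tensorMod (Wedge2.extMod (p) ΩY) (res I (CohB1.tensorMod (ClSub.idealMod I) G))) ∧
      Nonempty (S.X₂ ≅ res I (CohB1.tensorMod (Wedge2.extMod (p + 1) ΩX) G)) ∧
      Nonempty (S.X₃ ≅ CohB1.tensorMod (Wedge2.extMod (p + 1) ΩY) (res I G)) := by
  obtain ⟨T, hT, ⟨e₁⟩, ⟨e₂⟩, ⟨e₃⟩⟩ := hc.ses
  have h₁ : FlatMod.IsFinLocFreeOfRank 1 T.X₁ := M2.isFinLocFreeOfRank_of_iso e₁.symm
    ((M2.isInvertible_iff_isFinLocFreeOfRank_one _).1 (Twist.isInvertible_pullback _ hc.inv))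
  obtain ⟨S, hS, ⟨a⟩, h2, h3⟩ := exists_wedge_ses_sub T hT (p := p) (n := p + 1) (Nat.add_comm 1 p) h₁
    (M2.isFinLocFree_of_iso e₂.symm (M2.isFinLocFree_pullback _ hc.locFree))
    (M2.isFinLocFree_of_iso e₃.symm hc.locFree')
    (Wedge2.isExtPow_of_iso e₃.symm (Iso.refl _) (isExtPow_E hc.locFree' p))
    (Wedge2.isExtPow_of_iso e₂.symm (Iso.refl _)
      (Wedge2.isExtPow_pullback' I.subschemeι (M2.isQCoh_of_isFinLocFree hc.locFree) (isExtPow_E hc.locFree (p + 1))))
    (Wedge2.isExtPow_of_iso e₃.symm (Iso.refl _) (isExtPow_E hc.locFree' (p + 1)))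
    (M2.isQCoh_of_isFinLocFree (isFinLocFree_E hc.locFree' p))
  refine ⟨S.map (M2.tensorR (res I G)), CohFound.shortExact_tensor_invertible hS (Twist.isInvertible_pullback _ hG),
    ⟨M2.tensorIso (a ≪≫ M2.tensorIso e₁ (Iso.refl _) ≪≫ M2.tensorComm _ _) (Iso.refl _) ≪≫ M2.tensorAssoc _ _ _ ≪≫
      M2.tensorIso (Iso.refl _) (M2.pullTensorIso _ _ _).symm⟩,
    ⟨M2.tensorIso (eqToIso h2) (Iso.refl _) ≪≫ (M2.pullTensorIso _ _ _).symm⟩,
    ⟨M2.tensorIso (eqToIso h3) (Iso.refl _)⟩⟩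

end Groth.Agent.HdgLef1
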