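import Groth.Agent.Lib.Euler2.WedgeSES

/-!
# Exterior powers of an extension with invertible sub-object

`0 ⟶ L ⊗ Λ^p E'' ⟶ Λ^{p+1} E ⟶ Λ^{p+1} E'' ⟶ 0`.
-/

set_option autoImplicit false
set_option linter.style.haveILetI false
set_option linter.unusedSectionVars false
set_option backward.isDefEq.respectTransparency false
set_option backward.isDefEq.respectTransparency.types false
set_option maxHeartbeats 800000

universe u

open CategoryTheory Limits AlgebraicGeometry Opposite TopologicalSpace TensorProduct exteriorPower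

namespace Groth.Agent.HdgLef1

open ExtFil4
open KoszShH13 (appLin IsAffBasis exists_glue)

section Alg

variable {A E' E E'' : Type u} [CommRing A] [AddCommGroup E'] [Module A E'] [AddCommGroup E] [Module A E]
  [AddCommGroup E''] [Module A E''] {f : E' →ₗ[A] E} {g : E →ₗ[A] E''} (r : E →ₗ[A] E') (s : E'' →ₗ[A] E)
  (hgf : ∀ x, g (f x) = 0) (hr : ∀ x, r (f x) = x) (hs : ∀ y, g (s y) = y)
  (hk : ∀ x, g x = 0 → x ∈ LinearMap.range f)

include hgf hs hk in
/-- The kernel of `Λ^n g` is spanned by the wedges starting in `E'`. -/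
theorem map_eq_zero_iff_mem {n : ℕ} (hn : 0 < n) (x : ⋀[A]^n E) :
    exteriorPower.map n g x = 0 ↔ x ∈ Fil f n 1 := by
  constructor
  · intro hx
    suffices h : x - exteriorPower.map n s (exteriorPower.map n g x) ∈ Fil f n 1 by
      rwa [hx, map_zero, sub_zero] at h
    have hxs : x ∈ Submodule.span A (Set.range (ιMulti A n (M := E))) := by rw [ιMulti_span]; trivial
    refine (Submodule.mem_comap (f := LinearMap.id - exteriorPower.map n s ∘ₗ exteriorPower.map n g)).1
      ((Submodule.span_le (p := Submodule.comap _ (Fil f n 1))).2 ?_ hxs)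
    rintro _ ⟨v, rfl⟩
    rw [SetLike.mem_coe, Submodule.mem_comap, LinearMap.sub_apply, LinearMap.id_apply, LinearMap.comp_apply,
      exteriorPower.map_apply_ιMulti, exteriorPower.map_apply_ιMulti]
    exact sub_mem_Fil (p := 0) (fun i hi => absurd hi (Nat.not_lt_zero _))
      (fun i hi => absurd hi (Nat.not_lt_zero _)) (fun i _ => hk _ (by
        show g (v i - s (g (v i))) = 0
        rw [map_sub, hs, sub_self]))
  · intro hx
    refine LinearMap.mem_ker.1 ((Submodule.span_le (p := LinearMap.ker (exteriorPower.map n g))).2 ?_ hx)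
    rintro _ ⟨v, ⟨-, hv⟩, rfl⟩
    rw [SetLike.mem_coe, LinearMap.mem_ker, exteriorPower.map_apply_ιMulti]
    exact (ιMulti A n).map_coord_zero ⟨0, hn⟩ (g_eq_zero hgf (hv ⟨0, hn⟩ Nat.one_pos))

/-- Two entries from a free module of rank one wedge to zero. -/
theorem Fil_two (b' : Module.Basis (Fin 1) A E') (f : E' →ₗ[A] E) (n : ℕ) : Fil f n 2 = ⊥ := by
  refine eq_bot_iff.2 (Submodule.span_le.2 ?_)
  rintro _ ⟨v, ⟨hn, hv⟩, rfl⟩
  rw [SetLike.mem_coe, Submodule.mem_bot]
  let i₀ : Fin n := ⟨0, by omega⟩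
  let i₁ : Fin n := ⟨1, by omega⟩
  have hne : i₁ ≠ i₀ := fun h => by simpa [i₀, i₁] using congrArg Fin.val h
  obtain ⟨y₀, hy₀⟩ := hv i₀ Nat.two_pos
  obtain ⟨y₁, hy₁⟩ := hv i₁ Nat.one_lt_two
  have hc : ∀ y : E', f y = (b'.repr y 0) • f (b' 0) := fun y => by
    conv_lhs => rw [← b'.sum_repr y]
    simp
  let e := f (b' 0)
  let w := Function.update v i₀ e
  have h₀ : v = Function.update v i₀ (b'.repr y₀ 0 • e) := by
    rw [← hc y₀, hy₀, Function.update_eq_self]
  have h₁ : w = Function.update w i₁ (b'.repr y₁ 0 • e) := by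
    rw [← hc y₁, hy₁]
    exact (Function.update_eq_self_iff.2 (Function.update_of_ne hne e v).symm).symm
  rw [h₀, AlternatingMap.map_update_smul]
  refine (congrArg (fun z => b'.repr y₀ 0 • ιMulti A n z) h₁).trans ?_
  simp only [AlternatingMap.map_update_smul]
  suffices h : ιMulti A n (Function.update w i₁ e) = 0 by rw [h, smul_zero, smul_zero]
  refine (ιMulti A n).map_eq_zero_of_eq _ ?_ hne
  rw [Function.update_self, Function.update_of_ne hne.symm]
  exact (Function.update_self i₀ e v).symm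

end Alg

variable {X : Scheme.{u}}

/-- The exterior powers of an extension of an invertible sub-object. -/
theorem exists_wedge_ses_sub (S : ShortComplex X.Modules) (hS : S.ShortExact) {p n : ℕ} (hn : 1 + p = n)
    (h₁ : FlatMod.IsFinLocFreeOfRank 1 S.X₁) (h₂ : FlatMod.IsFinLocFree S.X₂) (h₃ : FlatMod.IsFinLocFree S.X₃)
    {B C C' : X.Modules} (hC : ExtPow.IsExtPow p S.X₃ C) (hB : ExtPow.IsExtPow n S.X₂ B)
    (hC' : ExtPow.IsExtPow n S.X₃ C') (hCq : Coh.IsQCoh C) :
    ∃ T : ShortComplex X.Modules, T.ShortExact ∧ Nonempty (T.X₁ ≅ CohB1.tensorMod S.X₁ C) ∧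
      T.X₂ = B ∧ T.X₃ = C' := by
  obtain ⟨φ, hφ⟩ := exists_phi hB
  obtain ⟨φ₁, hφ₁⟩ := exists_phi (isExtPow_one S.X₁)
  obtain ⟨φ₃, hφ₃⟩ := exists_phi hC
  obtain ⟨ψ, hψ⟩ := exists_phi hC'
  have hn0 : 0 < n := by omega
  let P : X.affineOpens → Prop := fun U => Nonempty (Module.Basis (Fin 1) Γ(X, U.1) Γ(S.X₁, U.1)) ∧
    Module.Free Γ(X, U.1) Γ(S.X₃, U.1)
  have hP : IsAffBasis P := by
    intro O x hx
    obtain ⟨D₁, e₁, hx₁, he₁⟩ := P1Split.exists_isBas_nhd h₁ x
    obtain ⟨U₃, m, hx₃, ⟨e₃⟩⟩ := h₃ x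
    obtain ⟨V, hV, hxV, hVle⟩ := exists_isAffineOpen_mem_and_subset (U := O ⊓ (D₁ ⊓ U₃)) (x := x) ⟨hx, hx₁, hx₃⟩
    have h : V ≤ O ⊓ (D₁ ⊓ U₃) := hVle
    obtain ⟨b⟩ := RankStratum13.exists_basis_of_freeMod (M2.isQCoh_of_isFinLocFree h₃) e₃ hV
      (h.trans (inf_le_right.trans inf_le_right))
    exact ⟨⟨V, hV⟩, ⟨DetSES2.nonempty_basis' (h.trans (inf_le_right.trans inf_le_left)) he₁,
      Module.Free.of_basis b⟩, hxV, h.trans inf_le_left⟩
  have hq₂ := M2.isQCoh_of_isFinLocFree h₂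
  have hq₃ := M2.isQCoh_of_isFinLocFree h₃
  have hq₁ : Coh.IsQCoh S.X₁ := M2.isQCoh_of_isFinLocFree (M2.isFinLocFree_of_ofRank h₁)
  let sp : ∀ U, P U → Split S U.1 := fun U hU => (nonempty_split hS hq₂ hq₃ U hU.2).some
  -- the quotient map
  let famπ : ∀ U : X.affineOpens, (Γ(B, U.1) →ₗ[Γ(X, U.1)] Γ(C', U.1)) := fun U =>
    (ψ U).symm.toLinearMap.comp ((exteriorPower.map n (appLin S.g U.1)).comp (φ U).toLinearMap)
  obtain ⟨π, hπ⟩ := exists_glue hP (fun U _ => (famπ U).toAddMonoidHom)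
    (fun U _ c m => (famπ U).map_smul c m) (fun U _ V _ h m => by
      show M1.mres C' h ((ψ U).symm (exteriorPower.map n (appLin S.g U.1) (φ U m))) =
        (ψ V).symm (exteriorPower.map n (appLin S.g V.1) (φ V (M1.mres B h m)))
      obtain ⟨x, rfl⟩ := (φ U).symm.surjective m
      rw [LinearEquiv.apply_symm_apply]
      have hx : x ∈ Submodule.span Γ(X, U.1) (Set.range (ιMulti Γ(X, U.1) n (M := Γ(S.X₂, U.1)))) := by
        rw [ιMulti_span]; trivial
      induction hx using Submodule.span_induction with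
      | zero => simp only [map_zero]
      | add x y _ _ hx hy => simp only [map_add, hx, hy]
      | smul c x _ hx => simp only [map_smul, res_smul, hx]
      | mem x hx =>
        obtain ⟨v, rfl⟩ := hx
        rw [hφ U V h v, LinearEquiv.apply_symm_apply, exteriorPower.map_apply_ιMulti,
          exteriorPower.map_apply_ιMulti, hψ U V h]
        exact congrArg (fun w => (ψ V).symm (ιMulti Γ(X, V.1) n w))
          (funext fun j => (M1.map_app_eq S.g h (v j)).symm))
  have hker' : ∀ U, P U → ∀ m, π.app U.1 m = 0 ↔ φ U m ∈ Fil (appLin S.f U.1) n 1 := fun U hU m => by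
    rw [← map_eq_zero_iff_mem (sp U hU).s (hgf S U.1) (sp U hU).hs (hker hS U.1) hn0 (φ U m)]
    refine Iff.trans (Eq.to_iff (congrArg (· = 0) (hπ U hU m))) ?_
    exact (ψ U).symm.map_eq_zero_iff
  haveI : Epi π := (M1.epi_iff_locally_surjective π).2 fun O t x hx => by
    obtain ⟨V, hV, hxV, hVO⟩ := hP O x hx
    refine ⟨V.1, hVO, hxV, (φ V).symm (exteriorPower.map n (sp V hV).s (ψ V (M1.mres C' hVO t))),
      (hπ V hV _).trans ?_⟩
    show (ψ V).symm (exteriorPower.map n (appLin S.g V.1) (φ V ((φ V).symm _))) = _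
    rw [LinearEquiv.apply_symm_apply, ← LinearMap.comp_apply, ← exteriorPower.map_comp,
      show (appLin S.g V.1).comp (sp V hV).s = LinearMap.id from LinearMap.ext (sp V hV).hs,
      exteriorPower.map_id, LinearMap.id_apply, LinearEquiv.symm_apply_apply]
  -- the kernel is the twisted lower exterior power
  let T := CohB1.tensorMod S.X₁ C
  have hb := bijective_tens φ₁ φ₃ hq₁ hCq
  have hmem : ∀ U, P U → ∀ a, φ U ((kernel.ι π).app U.1 a) ∈ Fil (appLin S.f U.1) n 1 := fun U hU a =>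
    (hker' U hU _).1 (congrArg (fun χ : kernel π ⟶ C' => χ.app U.1 a) (kernel.condition π))
  let fam : ∀ U, P U → (Γ(kernel π, U.1) →ₗ[Γ(X, U.1)] Γ(T, U.1)) := fun U hU =>
    (tens φ₁ φ₃ U).comp ((delta (sp U hU).r (appLin S.g U.1) hn).comp
      ((φ U).toLinearMap.comp (appLin (kernel.ι π) U.1)))
  obtain ⟨l, hl⟩ := exists_glue hP (fun U hU => (fam U hU).toAddMonoidHom)
    (fun U hU c m => (fam U hU).map_smul c m) (fun U hU V hV h m => by
      show M1.mres T h (tens φ₁ φ₃ U (delta (sp U hU).r (appLin S.g U.1) hn (φ U ((kernel.ι π).app U.1 m)))) =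
        tens φ₁ φ₃ V (delta (sp V hV).r (appLin S.g V.1) hn (φ V ((kernel.ι π).app V.1 (M1.mres (kernel π) h m))))
      let eV := LinearEquiv.ofBijective (tens φ₁ φ₃ V) (hb V)
      let τ := eV.symm.toLinearMap.toAddMonoidHom.comp
        ((AddCommGrpCat.Hom.hom (M1.mres T h)).comp (tens φ₁ φ₃ U).toAddMonoidHom)
      have hτ' : ∀ x, tens φ₁ φ₃ V (τ x) = M1.mres T h (tens φ₁ φ₃ U x) := fun x => eV.apply_symm_apply _
      have key := map_delta (sp U hU).r (g := appLin S.g U.1) (f := appLin S.f U.1) (hgf S U.1) (hgf S V.1) (sp V hV).r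
        (sp U hU).hr (sp V hV).hr hn (M1.ores h).hom (M1.mres S.X₁ h) (M1.mres S.X₂ h) (M1.mres S.X₃ h)
        (fun x => (M1.map_app_eq S.f h x).symm) (fun x => (M1.map_app_eq S.g h x).symm)
        (rho φ U V h) (rho_smul φ U V h)
        (fun v => by rw [rho_apply, hφ U V h v, LinearEquiv.apply_symm_apply])
        τ (fun c x => (hb V).1 (by rw [hτ', map_smul, res_smul, map_smul, hτ']))
        (fun a b => (hb V).1 (by rw [hτ']; exact res_tens φ₁ φ₃ hφ₁ hφ₃ U V h a b))
        (hmem U hU m)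
      rw [← hτ', key]
      refine congrArg (fun z => tens φ₁ φ₃ V (delta (sp V hV).r (appLin S.g V.1) hn z)) ?_
      rw [rho_apply, LinearEquiv.symm_apply_apply]
      exact congrArg (φ V) (M1.map_app_eq (kernel.ι π) h m).symm)
  let C₀ := ShortComplex.mk (kernel.ι π) π (kernel.condition π)
  have hC₀ : C₀.ShortExact := { exact := ShortComplex.exact_kernel π }
  haveI := hC₀.mono_f
  haveI : IsIso l := (M1.isIso_iff_stalk l).2 fun x =>
    KoszShH13.bijective_stalk_of_basis hP l x fun U hU _ => by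
      have happ : ∀ a, l.app U.1 a =
          tens φ₁ φ₃ U (delta (sp U hU).r (appLin S.g U.1) hn (φ U ((kernel.ι π).app U.1 a))) := fun a => hl U hU a
      refine ⟨(injective_iff_map_eq_zero (l.app U.1).hom).2 fun a ha => ?_, fun t => ?_⟩
      · have ha' := (happ a).symm.trans ha
        rw [(map_eq_zero_iff _ (hb U).1)] at ha'
        have h2 := (mem_Fil_succ_iff (sp U hU).r (hgf S U.1) (sp U hU).s hn (sp U hU).hr (sp U hU).hs (hker hS U.1)
          (hmem U hU a)).2 ha'
        rw [Fil_two hU.1.some, Submodule.mem_bot, LinearEquiv.map_eq_zero_iff] at h2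
        exact M1.app_injective (kernel.ι π) U.1 (h2.trans (map_zero _).symm)
      · obtain ⟨z, rfl⟩ := (hb U).2 t
        obtain ⟨a, ha⟩ := M1.sections_exact hC₀.exact U.1 ((φ U).symm (sigma (appLin S.f U.1) (sp U hU).s hn z))
          ((hker' U hU _).2 (by rw [LinearEquiv.apply_symm_apply]; exact sigma_mem _ hn z))
        refine ⟨a, (happ a).trans ?_⟩
        rw [show (kernel.ι π).app U.1 a = _ from ha, LinearEquiv.apply_symm_apply,
          delta_sigma _ (hgf S U.1) _ hn (sp U hU).hr (sp U hU).hs]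
  exact ⟨C₀, hC₀, ⟨asIso l⟩, rfl, rfl⟩

end Groth.Agent.HdgLef1
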