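import Groth.Agent.Lib.MeroLib.ZeroScheme
import Groth.Agent.Lib.SecDiv18.Basic
import Groth.Agent.Lib.EffCartier.Mul
import Groth.Agent.Lib.CurveCoh17.IdealPow
import Groth.Agent.Lib.CohFound.SerreVan
import Groth.Agent.Lib.IrrDiv13.Section

/-!
# The ideal of the zero scheme of a regular section
-/

set_option autoImplicit false
set_option linter.style.haveILetI false
set_option backward.isDefEq.respectTransparency false

universe u

open CategoryTheory CategoryTheory.Limits AlgebraicGeometry TopologicalSpace Opposite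

namespace Groth.Agent.HdgLef1

variable {X : Scheme.{u}} {L : X.Modules}

/-- For a regular section the inverse of the module is the ideal module of the zero scheme. -/
theorem nonempty_idealMod_tensor (hL : PicF.IsInvertible L) (s : Coh.structureModule X ⟶ L) [Mono s] :
    Nonempty (CohB1.tensorMod (ClSub.idealMod (PicF2.zeroScheme L s)) L ≅ Coh.structureModule X) := by
  obtain ⟨D, hD, ⟨ε⟩⟩ := M2.exists_inverse hL
  let φ : D ⟶ Coh.structureModule X := (M2.tensorLUnit D).inv ≫ M2.tensorMap s (𝟙 D) ≫ ε.hom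
  haveI : Mono (M2.tensorMap s (𝟙 D)) :=
    (CohFound.shortExact_tensor_invertible (S := ShortComplex.mk s (cokernel.π s) (cokernel.condition s))
      (ShortComplex.ShortExact.mk' (ShortComplex.exact_cokernel s) inferInstance inferInstance) hD).mono_f
  haveI : Coh.IsQCoh D := M2.isQCoh_of_isFinLocFree (M2.isFinLocFree_of_isInvertible hD)
  obtain ⟨i⟩ := SecDiv.nonempty_iso_idealMod φ
  suffices h : SecDiv.ofMono φ = PicF2.zeroScheme L s from
    ⟨M2.tensorIso (eqToIso (congrArg _ h.symm) ≪≫ i.symm) (Iso.refl L) ≪≫ M2.tensorComm D L ≪≫ ε⟩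
  refine EffCartier.eq_of_forall_exists fun x => ?_
  obtain ⟨V, e₀, hxV, -, -, he₀⟩ := Amp.exists_isGenerator hD (V := ⊤) (x := x) trivial
  obtain ⟨U, e, a, hxU, hUV, hU, he, ha, -⟩ := Amp.exists_local hL s (V := V) hxV
  have hsv : MeroLib.sval L s U = a • e := (ha.trans (Amp.res_gval s U)).symm
  have hbij : Function.Bijective fun r : Γ(X, U) => r • e := by
    refine ⟨fun r r' h => (he U le_rfl).1 ?_, fun t => ?_⟩
    · show r • _ = r' • _
      rw [Amp.res_self]
      exact h
    · exact Amp.exists_coeff he t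
  let e' := M2.res D hUV e₀
  have he' : M2.IsGenerator e' := Amp.isGenerator_res hUV he₀
  have hI : (PicF2.zeroScheme L s).ideal ⟨U, hU⟩ = Ideal.span {a} := by
    rw [MeroLib.zeroScheme_ideal L s hL, MeroLib.zI_eq_span L s e hbij a hsv]
  obtain ⟨v, hv, hφ⟩ : ∃ v : Γ(X, U), IsUnit v ∧ (show Γ(X, U) from φ.app U e') = a * v := by
    refine ⟨(show Γ(X, U) from ε.hom.app U (M2.tsec L D e e')), ?_, ?_⟩
    · have hgen := CurveOm17.isGen_tsec (A := L) (B := D) (U := U) he he'
      obtain ⟨z, hz⟩ := (ConcreteCategory.bijective_of_isIso (ε.hom.app U)).2 (M1.one U)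
      obtain ⟨c, rfl⟩ := CurveOm17.exists_eq_smul_of_isGen hgen z
      exact IsUnit.of_mul_eq_one_right c ((Scheme.Modules.Hom.app_smul ε.hom c _).symm.trans hz)
    · have hu : (M2.tensorLUnit D).inv.app U e' = M2.tsec _ D (M1.one U) e' := by
        apply (ConcreteCategory.bijective_of_isIso ((M2.tensorLUnit D).hom.app U)).1
        refine Eq.trans ?_ (CurveCoh17.tensorLUnit_tsec (M := D) (1 : Γ(X, U)) e').symm
        rw [one_smul]
        exact congrArg (fun ψ => ψ.app U e') (M2.tensorLUnit D).inv_hom_id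
      show (show Γ(X, U) from ε.hom.app U ((M2.tensorMap s (𝟙 D)).app U ((M2.tensorLUnit D).inv.app U e'))) = _
      rw [hu, M2.tensorMap_tsec, show s.app U (M1.one U) = MeroLib.sval L s U from rfl, hsv, M2.tsec_smul_left]
      exact Scheme.Modules.Hom.app_smul ε.hom a _
  refine ⟨⟨U, hU⟩, hxU, ?_⟩
  rw [hI]
  ext b
  rw [Ideal.mem_span_singleton']
  constructor
  · rintro ⟨z, rfl⟩
    obtain ⟨r, rfl⟩ := Amp.exists_coeff he' z
    refine ⟨r * v, Eq.symm ((Scheme.Modules.Hom.app_smul φ r e').trans ?_)⟩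
    show r * (show Γ(X, U) from φ.app U e') = r * v * a
    rw [hφ]; ring
  · rintro ⟨r, rfl⟩
    refine ⟨(r * ↑hv.unit⁻¹) • e', (Scheme.Modules.Hom.app_smul φ _ e').trans ?_⟩
    show r * ↑hv.unit⁻¹ * (show Γ(X, U) from φ.app U e') = r * a
    rw [hφ, mul_comm a, ← mul_assoc, mul_assoc r, IsUnit.val_inv_mul, mul_one]

end Groth.Agent.HdgLef1
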